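import Cfsg.Agent.Mrg.Omega.ML.MinIrr
import Cfsg.Agent.Mrg.Omega.ML.Ex.Def
import Cfsg.Agent.Mrg.Omega.VP
import Cfsg.Agent.Mrg.Omega.NO3b.Closed.CountB

section


/-!
# The exact end of NotFF (v2) at a closed point: the abstract statements (helper410, THEOREM END)

`H` finite, faithful on the elementary abelian 2-group `M`, `T` a Sylow 2-subgroup, `lam ≤ C_M(T)` of order at least 4,
all `v ∈ lam \ 1` have the same stabiliser `Y < H`, `M = ⟨lam^H⟩`, `B ≤ T` elementary abelian, `B ≠ 1`, `B ≤ O₂(R)` for all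
`T ≤ R < H`, `B` exact on all `⟨v^H⟩`, `|M : C_M(B)| < |B|²`.

* `oo H` : `O²(H)`;  `odd H M` (of `FFBr`) : `C_M(O²(H))`;
* `Abs` : this situation;  `AbsI` : the same with `M` irreducible;
* `P2 T lam` : `v' ∈ ⟨v^{N_H(T ∩ O²(H))}⟩ C_M(O²(H))` for all `v ∈ lam \ 1`, `v' ∈ lam`;
* `OddFree H` : no normal subgroup `≠ 1` of odd order (at a closed point: from the labels and the strong fix);
* `AbsP`, `AbsIP` : the statements `Abs → P2`, `AbsI → P2` for K-groups with `OddFree`;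
* `AbsI.Nmax` : `T` lies in a unique maximal subgroup; `MinP`, `RedP` : the two cases of `AbsIP`;  `absIP_of`.
-/

set_option autoImplicit false

namespace Cfsg.Agent.Omega.NO3b.EndX

open Subgroup Cfsg Cfsg.Agent.ZN Cfsg.Agent.ClassTwoFusion.Quad Cfsg.Agent.Omega.ML.MinFrame
open Cfsg.Agent.Omega.FFBr (odd mem_odd)

universe u v

/-- `O²(H)` -/
def oo (H : Type u) [Group H] : Subgroup H := closure {x : H | Odd (orderOf x)}

/-- the abstract exact end -/
structure Abs {H : Type u} [Group H] {M : Type v} [Group M] [MulDistribMulAction H M] (T B Y : Subgroup H)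
    (lam : Subgroup M) : Prop where
  sq : ∀ m : M, m * m = 1
  faith : ∀ h : H, (∀ m : M, h • m = m) → h = 1
  two : IsPGroup 2 T
  syl : ¬ 2 ∣ T.index
  stab : ∀ v ∈ lam, v ≠ 1 → ∀ h : H, h • v = v ↔ h ∈ Y
  TY : T ≤ Y
  Yne : Y ≠ ⊤
  four : 4 ≤ Nat.card lam
  gen : ∀ U : Subgroup M, (∀ h : H, ∀ v ∈ lam, h • v ∈ U) → U = ⊤
  BT : B ≤ T
  Bne : B ≠ ⊥
  el : ∀ b ∈ B, b * b = 1
  low : ∀ R : Subgroup H, T ≤ R → R ≠ ⊤ → B ≤ o2 R
  exact : ∀ v ∈ lam, v ≠ 1 → (cv M (B : Set H)).relIndex (orb (⊤ : Subgroup H) v) = Nat.card B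
  lt : (cv M (B : Set H)).index < Nat.card B ^ 2

/-- the abstract exact end, `M` irreducible -/
structure AbsI {H : Type u} [Group H] {M : Type v} [Group M] [MulDistribMulAction H M] (T B Y : Subgroup H)
    (lam : Subgroup M) : Prop where
  sq : ∀ m : M, m * m = 1
  faith : ∀ h : H, (∀ m : M, h • m = m) → h = 1
  irr : ∀ W : Subgroup M, (∀ h : H, ∀ w ∈ W, h • w ∈ W) → W = ⊥ ∨ W = ⊤
  two : IsPGroup 2 T
  syl : ¬ 2 ∣ T.index
  stab : ∀ v ∈ lam, v ≠ 1 → ∀ h : H, h • v = v ↔ h ∈ Y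
  TY : T ≤ Y
  Yne : Y ≠ ⊤
  four : 4 ≤ Nat.card lam
  BT : B ≤ T
  Bne : B ≠ ⊥
  el : ∀ b ∈ B, b * b = 1
  low : ∀ R : Subgroup H, T ≤ R → R ≠ ⊤ → B ≤ o2 R
  exact : (cv M (B : Set H)).index = Nat.card B

/-- the conclusion: `v' ∈ ⟨v^{N_H(T ∩ O²(H))}⟩ C_M(O²(H))` -/
def P2 {H : Type u} [Group H] {M : Type v} [Group M] [MulDistribMulAction H M] (T : Subgroup H)
    (lam : Subgroup M) : Prop :=
  ∀ v ∈ lam, v ≠ 1 → ∀ v' ∈ lam,
    v' ∈ closure {m : M | ∃ n ∈ normalizer ((T ⊓ oo H : Subgroup H) : Set H), m = n • v} ⊔ odd H M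

/-- no normal subgroup `≠ 1` of odd order -/
def OddFree (H : Type u) [Group H] : Prop := ∀ F : Subgroup H, F.Normal → Odd (Nat.card F) → F = ⊥

/-- the statement for `Abs` -/
def AbsP : Prop :=
  ∀ (H : Type u) [Group H] [Finite H] (M : Type v) [Group M] [Finite M] [MulDistribMulAction H M]
    (T B Y : Subgroup H) (lam : Subgroup M), IsKGroup H → OddFree H → Abs T B Y lam → P2 T lam

/-- the statement for `AbsI` -/
def AbsIP : Prop :=
  ∀ (H : Type u) [Group H] [Finite H] (M : Type v) [Group M] [Finite M] [MulDistribMulAction H M]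
    (T B Y : Subgroup H) (lam : Subgroup M), IsKGroup H → OddFree H → AbsI T B Y lam → P2 T lam

/-- `T` lies in a unique maximal subgroup -/
def Nmax {H : Type u} [Group H] (T : Subgroup H) : Prop :=
  ∃ N : Subgroup H, N ≠ ⊤ ∧ ∀ R : Subgroup H, T ≤ R → R ≠ ⊤ → R ≤ N

/-- case 1: `T` lies in a unique maximal subgroup -/
def MinP : Prop :=
  ∀ (H : Type u) [Group H] [Finite H] (M : Type v) [Group M] [Finite M] [MulDistribMulAction H M]
    (T B Y : Subgroup H) (lam : Subgroup M), IsKGroup H → AbsI T B Y lam → Nmax T → P2 T lam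

/-- case 2: `T` lies in at least two maximal subgroups -/
def RedP : Prop :=
  ∀ (H : Type u) [Group H] [Finite H] (M : Type v) [Group M] [Finite M] [MulDistribMulAction H M]
    (T B Y : Subgroup H) (lam : Subgroup M), IsKGroup H → OddFree H → AbsI T B Y lam → ¬ Nmax T → P2 T lam

theorem absIP_of (h1 : MinP.{u, v}) (h2 : RedP.{u, v}) : AbsIP.{u, v} := by
  intro H _ _ M _ _ _ T B Y lam hK hO h
  by_cases hn : Nmax T
  · exact h1 H M T B Y lam hK h hn
  · exact h2 H M T B Y lam hK hO h hn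

end Cfsg.Agent.Omega.NO3b.EndX

end

section


/-!
# The exact end of NotFF (v2) (helper410, THEOREM END): the section

* `Sec T D X U lam π p` : `T ≤ X ≤ C_G(D)`, `X` normalises `U ≥ D`, `π : X → H` onto, `p : U → M` onto with kernel `D`,
  `p (u^x) = π x • p u`.
-/

set_option autoImplicit false

namespace Cfsg.Agent.Omega.NO3b.EndX

open Subgroup Cfsg Cfsg.Agent.ZN

universe u

/-- the section `(H, M) = (X / C_X(U / D), U / D)` -/
structure Sec {G : Type u} [Group G] (T D X U lam : Subgroup G) {H : Type u} [Group H] {M : Type u} [Group M]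
    [MulDistribMulAction H M] (π : X →* H) (p : U →* M) : Prop where
  TX : T ≤ X
  XD : X ≤ centralizer (D : Set G)
  XU : X ≤ normalizer (U : Set G)
  DU : D ≤ U
  lamU : lam ≤ U
  surj : Function.Surjective π
  psurj : Function.Surjective p
  ker : ∀ u : U, p u = 1 ↔ (u : G) ∈ D
  eqv : ∀ (x : X) (u u' : U), (u' : G) = x * u * (x : G)⁻¹ → p u' = π x • p u

end Cfsg.Agent.Omega.NO3b.EndX

end

section


/-!
# The exact end of NotFF at a closed point: from the abstract output (helper711) to the level of `G`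

`CG` acts on `WG` by conjugation (`CG = C_G(D)`, `WG = ⟨V^CG⟩`), `X ≤ CG`, `U ≤ WG` as in helper711's
`Pnt.exists_end`; the output is helper768's `Sec` with helper410's `Abs`
(= helper768's `SecAt S V D lam` for `T = S ⊓ C_G(D)`, `CG = C_G(D)`, `WG = ⟨V^CG⟩`).

* `secX`, `secPi` : the group `X` as a subgroup of `G` and the homomorphism `π` on it;
* `map_secPi` : the image of `T`;
* `exists_sec` : **the transfer**.

Author: helper111.
-/

set_option autoImplicit false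

namespace Cfsg.Agent.Omega.NO3b.ExEnd

open Subgroup Cfsg Cfsg.Agent.ZN
open Cfsg.Agent.Omega.NO3b.EndX (Abs Sec OddFree)

universe u

section one

variable {G : Type u} [Group G] {A : Subgroup G} (X : Subgroup A) {H : Type u} [Group H] (π : X →* H)

/-- `X ≤ A ≤ G` as a subgroup of `G` -/
def secX : Subgroup G := X.map A.subtype

theorem secX_le : secX X ≤ A := map_subtype_le X

theorem mem_secX {x : G} : x ∈ secX X ↔ ∃ h : x ∈ A, (⟨x, h⟩ : A) ∈ X := by
  constructor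
  · rintro ⟨a, ha, rfl⟩
    exact ⟨a.2, ha⟩
  · rintro ⟨h, hx⟩
    exact ⟨⟨x, h⟩, hx, rfl⟩

/-- the isomorphism -/
noncomputable def secE : secX X ≃* X := (X.equivMapOfInjective A.subtype A.subtype_injective).symm

theorem secE_coe (x : secX X) : (((secE X x : X) : A) : G) = x := by
  have h := (X.equivMapOfInjective A.subtype A.subtype_injective).apply_symm_apply x
  have h2 := congrArg (fun y : secX X => (y : G)) h
  exact h2

/-- the homomorphism -/
noncomputable def secPi : secX X →* H := π.comp (secE X).toMonoidHom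

theorem secPi_apply (x : secX X) : secPi X π x = π (secE X x) := rfl

theorem secPi_mk {x : G} (h : x ∈ A) (hx : (⟨x, h⟩ : A) ∈ X) :
    secPi X π ⟨x, (mem_secX X).2 ⟨h, hx⟩⟩ = π ⟨⟨x, h⟩, hx⟩ := by
  rw [secPi_apply]
  congr 1
  apply Subtype.ext
  apply Subtype.ext
  exact secE_coe X _

theorem secPi_surj (h : Function.Surjective π) : Function.Surjective (secPi X π) :=
  h.comp (secE X).surjective

/-- the image of `T` -/
theorem map_secPi (T : Subgroup G) :
    (T.subgroupOf (secX X)).map (secPi X π) = ((T.subgroupOf A).subgroupOf X).map π := by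
  ext y
  constructor
  · rintro ⟨x, hx, rfl⟩
    refine ⟨secE X x, ?_, rfl⟩
    rw [SetLike.mem_coe, mem_subgroupOf, mem_subgroupOf, secE_coe]
    exact mem_subgroupOf.1 hx
  · rintro ⟨x, hx, rfl⟩
    have hx' : ((x : A) : G) ∈ T := mem_subgroupOf.1 (mem_subgroupOf.1 hx)
    refine ⟨⟨((x : A) : G), (mem_secX X).2 ⟨(x : A).2, x.2⟩⟩, mem_subgroupOf.2 hx', ?_⟩
    exact secPi_mk X π (x : A).2 x.2

end one

/-- **The transfer to the level of `G`.** -/
theorem exists_sec {G : Type u} [Group G] {CG WG T D lam : Subgroup G} [MulDistribMulAction CG WG]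
    (hact : ∀ (c : CG) (w : WG), ((c • w : WG) : G) = (c : G) * w * (c : G)⁻¹)
    (TC : T ≤ CG) (CD : CG ≤ centralizer (D : Set G)) (DW : D ≤ WG) (lW : lam ≤ WG)
    (h : ∃ (X : Subgroup CG) (U : Subgroup WG), T.subgroupOf CG ≤ X ∧ (∀ x ∈ X, ∀ w ∈ U, x • w ∈ U) ∧
      D.subgroupOf WG ≤ U ∧ lam.subgroupOf WG ≤ U ∧
      ∃ (H : Type u) (_ : Group H) (_ : Finite H) (M : Type u) (_ : Group M) (_ : Finite M)
        (_ : MulDistribMulAction H M) (π : X →* H) (q : U →* M), Function.Surjective π ∧ Function.Surjective q ∧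
        (∀ w : U, q w = 1 ↔ (w : WG) ∈ D.subgroupOf WG) ∧
        (∀ (x : X) (w w' : U), (w' : WG) = (x : CG) • (w : WG) → q w' = π x • q w) ∧ IsKGroup H ∧ OddFree H ∧
        ∃ B' Y : Subgroup H, Abs (((T.subgroupOf CG).subgroupOf X).map π) B' Y
          (((lam.subgroupOf WG).subgroupOf U).map q)) :
    ∃ (X U : Subgroup G) (H : Type u) (_ : Group H) (_ : Finite H) (M : Type u) (_ : Group M) (_ : Finite M)
      (_ : MulDistribMulAction H M) (π : X →* H) (p : U →* M) (B' Y : Subgroup H),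
      Sec T D X U lam π p ∧ IsKGroup H ∧ OddFree H ∧ U ≤ WG ∧
        Abs ((T.subgroupOf X).map π) B' Y ((lam.subgroupOf U).map p) := by
  obtain ⟨X, U, hTX, hXU, hDU, hlU, H, iH, fH, M, iM, fM, act, π, q, hπ, hq, hker, heq, hK, hO, B', Y, habs⟩ := h
  refine ⟨secX X, secX U, H, iH, fH, M, iM, fM, act, secPi X π, secPi U q, B', Y, ?_, hK, hO, secX_le U, ?_⟩
  · have hnorm : ∀ x ∈ secX X, ∀ u ∈ secX U, x * u * x⁻¹ ∈ secX U := by
      intro x hx u hu
      obtain ⟨hxC, hxX⟩ := (mem_secX X).1 hx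
      obtain ⟨huW, huU⟩ := (mem_secX U).1 hu
      have h1 := hXU _ hxX _ huU
      have h2 := hact ⟨x, hxC⟩ ⟨u, huW⟩
      refine (mem_secX U).2 ⟨?_, ?_⟩
      · have h3 := ((⟨x, hxC⟩ : CG) • (⟨u, huW⟩ : WG)).2
        rwa [h2] at h3
      · have e : ((⟨x, hxC⟩ : CG) • (⟨u, huW⟩ : WG)) = ⟨x * u * x⁻¹, by
            have h3 := ((⟨x, hxC⟩ : CG) • (⟨u, huW⟩ : WG)).2
            rwa [h2] at h3⟩ := Subtype.ext h2
        rwa [e] at h1
    refine
      { TX := fun t ht => (mem_secX X).2 ⟨TC ht, hTX (mem_subgroupOf.2 ht)⟩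
        XD := (secX_le X).trans CD
        XU := ?_
        DU := fun d hd => (mem_secX U).2 ⟨DW hd, hDU (mem_subgroupOf.2 hd)⟩
        lamU := fun v hv => (mem_secX U).2 ⟨lW hv, hlU (mem_subgroupOf.2 hv)⟩
        surj := secPi_surj X π hπ
        psurj := secPi_surj U q hq
        ker := ?_
        eqv := ?_ }
    · intro x hx
      rw [mem_normalizer_iff]
      intro u
      constructor
      · exact fun hu => hnorm x hx u hu
      · intro hu
        have h1 := hnorm x⁻¹ (inv_mem hx) _ hu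
        have e : x⁻¹ * (x * u * x⁻¹) * x⁻¹⁻¹ = u := by group
        rwa [e] at h1
    · intro u
      rw [secPi_apply, hker, mem_subgroupOf, secE_coe]
    · intro x u u' he
      rw [secPi_apply, secPi_apply, secPi_apply]
      refine heq _ _ _ ?_
      apply Subtype.ext
      rw [hact, secE_coe, secE_coe, secE_coe]
      exact he
  · rw [map_secPi, map_secPi]
    exact habs

end Cfsg.Agent.Omega.NO3b.ExEnd

end

section


/-!
# The exact end of NotFF at a closed point, P1 of #22392 (texts #22122 helper410, #22075 helper264, #22039): the frame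

`C` acts on the elementary abelian 2-group `W`.

* `cm Z F = {w | [w, F] ≤ Z}`, `iv Z = N_C(Z)`, `km S Z = {c ∈ N_C(Z) | [s, c] ∈ Z for s ∈ S}`;
* **`Pnt T D Λ P B E`** : the input, `C = C_G(D)`, `W = ⟨V^C⟩`, `Λ = lam`, `P = C₊`, from `Closed.Out e lam T₀`;
* **`Lab T D Λ P L`** : the labels `L v = [v, T]`, and `C_W(T ∩ Y) ≤ C_W(Y)` for `Y` normalised by `T` (strong fix).
-/

set_option autoImplicit false

namespace Cfsg.Agent.Omega.NO3b.ExEnd

open Subgroup Cfsg Cfsg.Agent.ZN Cfsg.Agent.ClassTwoFusion.Quad Cfsg.Agent.Omega.ML.MinFrame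

universe u v

section defs

variable {C : Type u} [Group C] {W : Type v} [CommGroup W] [MulDistribMulAction C W]

/-- `{w | [w, F] ≤ Z}` -/
def cm (Z : Subgroup W) (F : Set C) : Subgroup W where
  carrier := {w | ∀ a ∈ F, w⁻¹ * a • w ∈ Z}
  one_mem' := fun a _ => by rw [smul_one, inv_one, one_mul]; exact one_mem _
  mul_mem' := fun {x y} hx hy a ha => by
    have h := mul_mem (hx a ha) (hy a ha)
    have e : (x * y)⁻¹ * a • (x * y) = x⁻¹ * a • x * (y⁻¹ * a • y) := by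
      rw [smul_mul', mul_inv_rev, mul_comm y⁻¹ x⁻¹]
      exact mul_mul_mul_comm _ _ _ _
    rw [e]
    exact h
  inv_mem' := fun {x} hx a ha => by
    have h := inv_mem (hx a ha)
    have e : x⁻¹⁻¹ * a • x⁻¹ = (x⁻¹ * a • x)⁻¹ := by
      rw [smul_inv', mul_inv_rev, inv_inv, mul_comm]
    rw [e]
    exact h

/-- `N_C(Z)` -/
def iv (Z : Subgroup W) : Subgroup C where
  carrier := {c | ∀ z ∈ Z, c • z ∈ Z ∧ c⁻¹ • z ∈ Z}
  one_mem' := fun z hz => by rw [inv_one, one_smul]; exact ⟨hz, hz⟩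
  mul_mem' := fun {a b} ha hb z hz => by
    rw [mul_smul, mul_inv_rev, mul_smul]
    exact ⟨(ha _ (hb z hz).1).1, (hb _ (ha z hz).2).2⟩
  inv_mem' := fun {a} ha z hz => by
    rw [inv_inv]
    exact ⟨(ha z hz).2, (ha z hz).1⟩

/-- `{c ∈ N_C(Z) | [s, c] ∈ Z for s ∈ S}` -/
def km (C : Type u) [Group C] [MulDistribMulAction C W] (S : Set W) (Z : Subgroup W) : Subgroup C where
  carrier := {c | c ∈ iv (C := C) Z ∧ ∀ s ∈ S, s⁻¹ * c • s ∈ Z}
  one_mem' := ⟨one_mem _, fun s _ => by rw [one_smul, inv_mul_cancel]; exact one_mem _⟩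
  mul_mem' := fun {a b} ha hb => ⟨mul_mem ha.1 hb.1, fun s hs => by
    have h := mul_mem (ha.2 s hs) (ha.1 _ (hb.2 s hs)).1
    have e : s⁻¹ * (a * b) • s = s⁻¹ * a • s * a • (s⁻¹ * b • s) := by
      rw [smul_mul', smul_inv', mul_smul]
      group
    rw [e]
    exact h⟩
  inv_mem' := fun {a} ha => ⟨inv_mem ha.1, fun s hs => by
    have h := (ha.1 _ (inv_mem (ha.2 s hs))).2
    have e : s⁻¹ * a⁻¹ • s = a⁻¹ • (s⁻¹ * a • s)⁻¹ := by
      rw [smul_inv', smul_mul', smul_inv', inv_smul_smul, mul_inv_rev, inv_inv, mul_comm]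
    rw [e]
    exact h⟩

theorem mem_cm {Z : Subgroup W} {F : Set C} {w : W} : w ∈ cm Z F ↔ ∀ a ∈ F, w⁻¹ * a • w ∈ Z := Iff.rfl

theorem mem_iv {Z : Subgroup W} {c : C} : c ∈ iv (C := C) Z ↔ ∀ z ∈ Z, c • z ∈ Z ∧ c⁻¹ • z ∈ Z := Iff.rfl

theorem mem_km {S : Set W} {Z : Subgroup W} {c : C} :
    c ∈ km C S Z ↔ c ∈ iv (C := C) Z ∧ ∀ s ∈ S, s⁻¹ * c • s ∈ Z := Iff.rfl

/-- **The input**: an exact end at a closed point. -/
structure Pnt (T : Subgroup C) (D Λ : Subgroup W) (P B E : Subgroup C) : Prop where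
  sq : ∀ w : W, w * w = 1
  two : IsPGroup 2 T
  odd : ¬ 2 ∣ T.index
  fixD : ∀ c : C, ∀ d ∈ D, c • d = d
  DΛ : D ≤ Λ
  four : 4 * Nat.card D ≤ Nat.card Λ
  TP : T ≤ P
  stab : ∀ v ∈ Λ, v ∉ D → ∀ c : C, c ∈ P ↔ v⁻¹ * c • v ∈ D
  BP : B ≤ o2 P
  Bsq : ∀ b ∈ B, b * b = 1
  EB : E ≤ B
  mem_E : ∀ v ∈ Λ, v ∉ D → ∀ b ∈ B, b ∈ E ↔ ∀ c : C, (c • v)⁻¹ * b • c • v ∈ D
  ex : ∀ v ∈ Λ, v ∉ D → (cm D (B : Set C)).relIndex (orb (⊤ : Subgroup C) v) = E.relIndex B
  lt : (cm D (B : Set C)).index < E.relIndex B ^ 2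

/-- **The labels** `L v = [v, T]` and the trace lemma (strong fix). -/
structure Lab (T : Subgroup C) (D Λ : Subgroup W) (P : Subgroup C) (L : W → Subgroup W) : Prop where
  LD : ∀ v, L v ≤ D
  lab : ∀ v ∈ Λ, v ∉ D → ∀ c ∈ P, v⁻¹ * c • v ∈ L v
  inf : ∀ d, (∀ v ∈ Λ, v ∉ D → d ∈ L v) → d = 1
  tr : ∀ Y : Subgroup C, T ≤ normalizer (Y : Set C) → ∀ w : W, (∀ t ∈ T ⊓ Y, t • w = w) → ∀ y ∈ Y, y • w = w

end defs

end Cfsg.Agent.Omega.NO3b.ExEnd

end

section


/-!
# The exact end of NotFF (v2): THEOREM END (helper410, #22122), (4): the irreducible quotient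

`ABS H M T Y B Lam` : `H` acts faithfully on the elementary abelian 2-group `M`, `T` is a Sylow 2-subgroup, `Lam ≤ C_M(T)`
with `C_H(v) = Y < H` for all `1 ≠ v ∈ Lam`, `M = ⟨Lam^H⟩`, `B ≤ T` is elementary abelian, low (`B ≤ O₂(R)` for
`T ≤ R < H`), exact on every `U_v = ⟨v^H⟩` and `|M : C_M(B)| < |B|²`.

**`ABS.out`** : for K-groups, `N = M / C_M(O²(H))` is irreducible and faithful, the image of every `U_v`,
`|N : C_N(B)| = |B|`, and the stabiliser of the image of `v` is `Y`.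
-/

set_option autoImplicit false
set_option linter.unusedSectionVars false

namespace Cfsg.Agent.Omega.NO3b.EndX

open Subgroup Cfsg Cfsg.Agent.ZN Cfsg.Agent.ClassTwoFusion.Quad
open Cfsg.Agent.Omega.ML.MinFrame (orb fxr mem_fxr smul_mem_orb_self mem_orb_self smul_mem_orb orb_le fxr_normal)
open Cfsg.Agent.Omega.ML.Final (MLK Dat MLK.act)
open Cfsg.Agent.MinSimple.VModule

universe u v

/-! ### Groups -/

section grp

variable {H : Type u} [Group H]

/-- `H = O²(H) T` -/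
theorem oddGen_sup_top [Finite H] {P T : Subgroup H} (hTP : T ≤ P) (hT : ¬ 2 ∣ T.relIndex P) :
    oddGen P ⊔ T = P := by
  have : Fact (Nat.Prime 2) := ⟨Nat.prime_two⟩
  apply le_antisymm (sup_le (oddGen_le P) hTP)
  have hN : ((oddGen P).subgroupOf P).Normal := normal_subgroupOf_of_le_normalizer (le_normalizer_oddGen P)
  have h1 : IsPGroup 2 (P ⧸ (oddGen P).subgroupOf P) := by
    intro q
    obtain ⟨x, rfl⟩ := QuotientGroup.mk_surjective q
    obtain ⟨a, m, hm, ha⟩ := Nat.exists_eq_pow_mul_and_not_dvd (orderOf_pos (x : H)).ne' 2 (by norm_num)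
    refine ⟨a, ?_⟩
    rw [← QuotientGroup.mk_pow, QuotientGroup.eq_one_iff, mem_subgroupOf]
    refine mem_oddGen (P.pow_mem x.2 _) ?_
    have hm0 : 0 < m := Nat.pos_of_ne_zero (by rintro rfl; simp at hm)
    have h2 : orderOf ((x : H) ^ 2 ^ a) = m := by
      rw [orderOf_pow_of_dvd (by positivity) (ha ▸ Dvd.intro _ rfl), ha, Nat.mul_div_cancel_left _ (by positivity)]
    rw [coe_pow, h2]
    exact Nat.not_even_iff_odd.1 fun h => hm h.two_dvd
  obtain ⟨k, hk⟩ := IsPGroup.iff_card.1 h1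
  have h2 : (oddGen P ⊔ T).relIndex P ∣ 2 ^ k := by
    have h3 : (oddGen P ⊔ T).relIndex P ∣ (oddGen P).relIndex P := relIndex_dvd_of_le_left _ le_sup_left
    have h4 : (oddGen P).relIndex P = 2 ^ k := by
      rw [← hk, relIndex, index_eq_card]
    rwa [h4] at h3
  obtain ⟨j, -, hj⟩ := (Nat.dvd_prime_pow Nat.prime_two).1 h2
  have h5 : (oddGen P ⊔ T).relIndex P ∣ T.relIndex P := relIndex_dvd_of_le_left _ le_sup_right
  rw [hj] at h5
  rcases Nat.eq_zero_or_pos j with rfl | hj0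
  · rw [pow_zero] at hj
    exact relIndex_eq_one.1 hj
  · exact absurd ((dvd_pow_self 2 hj0.ne').trans h5) hT

theorem relIndex_ne' [Finite H] (A B : Subgroup H) : A.relIndex B ≠ 0 := by
  rw [relIndex]
  exact index_ne_zero_of_finite

/-- equal relative indices -/
theorem inf_le_of_relIndex [Finite H] {A B U : Subgroup H} (h : A ≤ B) (he : A.relIndex U = B.relIndex U) :
    B ⊓ U ≤ A := by
  have h1 := relIndex_mul_relIndex (A ⊓ U) (B ⊓ U) U (inf_le_inf_right _ h) inf_le_right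
  rw [inf_relIndex_right, inf_relIndex_right, he] at h1
  have h2 : (A ⊓ U).relIndex (B ⊓ U) = 1 := by
    have h3 : (A ⊓ U).relIndex (B ⊓ U) * B.relIndex U = 1 * B.relIndex U := by rw [h1, one_mul]
    exact Nat.eq_of_mul_eq_mul_right (Nat.pos_of_ne_zero (relIndex_ne' _ _)) h3
  exact (relIndex_eq_one.1 h2).trans inf_le_left

end grp

/-- the action on a quotient -/
@[reducible] def quoAct {X : Type u} {U : Type v} [Group X] [Group U] [MulDistribMulAction X U] (D : Subgroup U)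
    [D.Normal] (hD : ∀ x : X, ∀ d ∈ D, x • d ∈ D) : MulDistribMulAction X (U ⧸ D) where
  smul x := QuotientGroup.map D D (MulDistribMulAction.toMonoidHom U x) fun d hd => hD x d hd
  one_smul q := by
    obtain ⟨u, rfl⟩ := QuotientGroup.mk_surjective q
    exact congrArg (QuotientGroup.mk (s := D)) (one_smul X u)
  mul_smul x y q := by
    obtain ⟨u, rfl⟩ := QuotientGroup.mk_surjective q
    exact congrArg (QuotientGroup.mk (s := D)) (mul_smul x y u)
  smul_mul x p q := map_mul (QuotientGroup.map D D (MulDistribMulAction.toMonoidHom U x) fun d hd => hD x d hd) p q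
  smul_one x := map_one (QuotientGroup.map D D (MulDistribMulAction.toMonoidHom U x) fun d hd => hD x d hd)

/-- The abstract situation of THEOREM END. -/
structure ABS (H : Type u) [Group H] (M : Type v) [Group M] [MulDistribMulAction H M] (T Y B : Subgroup H)
    (Lam : Subgroup M) : Prop where
  sq : ∀ m : M, m * m = 1
  faith : ∀ h : H, (∀ m : M, h • m = m) → h = 1
  two : IsPGroup 2 T
  syl : ¬ 2 ∣ T.index
  fixT : ∀ t ∈ T, ∀ v ∈ Lam, t • v = v
  four : 4 ≤ Nat.card Lam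
  stab : ∀ v ∈ Lam, v ≠ 1 → ∀ h : H, h • v = v ↔ h ∈ Y
  Yne : Y ≠ ⊤
  gen : ∀ U : Subgroup M, Lam ≤ U → (∀ h : H, ∀ u ∈ U, h • u ∈ U) → U = ⊤
  BT : B ≤ T
  el : ∀ b ∈ B, b * b = 1
  low : ∀ R : Subgroup H, T ≤ R → R ≠ ⊤ → B ≤ o2 R
  exact : ∀ v ∈ Lam, v ≠ 1 → (cv M (B : Set H)).relIndex (orb (⊤ : Subgroup H) v) = Nat.card B
  small : (cv M (B : Set H)).index < Nat.card B * Nat.card B

namespace ABS

variable {H : Type u} [Group H] {M : Type v} [Group M] [MulDistribMulAction H M] {T Y B : Subgroup H}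
  {Lam : Subgroup M}

theorem inv_eq (h : ABS H M T Y B Lam) (x : M) : x⁻¹ = x := inv_eq_of_mul_eq_one_right (h.sq x)

theorem comm (h : ABS H M T Y B Lam) (x y : M) : x * y = y * x := by
  calc x * y = (x * y)⁻¹ := (h.inv_eq _).symm
    _ = y⁻¹ * x⁻¹ := mul_inv_rev _ _
    _ = y * x := by rw [h.inv_eq, h.inv_eq]

theorem norm (h : ABS H M T Y B Lam) (W : Subgroup M) : W.Normal := ⟨fun d hd g => by
  rw [h.comm g d, mul_inv_cancel_right]; exact hd⟩

variable [Finite H]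

/-- normal 2-subgroups are trivial -/
theorem norm_two (h : ABS H M T Y B Lam) {F : Subgroup H} (hF : F.Normal) (h2 : IsPGroup 2 F) : F = ⊥ := by
  have hFT : F ≤ T := by
    have h1 : F ≤ o2 (⊤ : Subgroup H) := le_o2 le_top h2 (by rw [normalizer_eq_top])
    exact h1.trans (o2_le_of_sylow h.two (by rw [relIndex_top_right]; exact h.syl))
  have h1 : cv M (F : Set H) = ⊤ := by
    refine h.gen _ (fun v hv f hf => h.fixT f (hFT hf) v hv) fun g u hu f hf => ?_
    have h3 : g⁻¹ * f * g ∈ F := by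
      have := hF.conj_mem f hf g⁻¹
      rwa [inv_inv] at this
    have h4 := hu _ h3
    rw [mul_smul, mul_smul, inv_smul_eq_iff] at h4
    exact h4
  rw [eq_bot_iff]
  intro f hf
  rw [mem_bot]
  refine h.faith f fun m => ?_
  have h3 : m ∈ cv M (F : Set H) := by rw [h1]; exact mem_top m
  exact h3 f hf

/-- (i) -/
theorem inf_B (h : ABS H M T Y B Lam) {F : Subgroup H} (hF : F.Normal) (hFT : F ⊔ T ≠ ⊤) : F ⊓ B = ⊥ := by
  have h1 := h.low (F ⊔ T) le_sup_right hFT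
  have h2 : F ⊓ o2 (F ⊔ T) ≤ o2 F := by
    refine le_o2 inf_le_left ((o2_isPGroup (F ⊔ T)).to_le inf_le_right) ?_
    refine fun x hx => ?_
    rw [mem_normalizer_iff]
    have h3 := mem_normalizer_iff.1 (le_normalizer_o2 (F ⊔ T) ((le_sup_left : F ≤ F ⊔ T) hx))
    intro y
    rw [mem_inf, mem_inf, ← h3 y]
    refine and_congr_left fun _ => ⟨fun hy => hF.conj_mem y hy x, fun hy => ?_⟩
    have := hF.conj_mem _ hy x⁻¹
    simpa [mul_assoc] using this
  have h3 : o2 F = ⊥ := by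
    have := Lib.Cores.pCore_characteristic (G := F) 2
    have h4 : ((pCore 2 F).map F.subtype).Normal := ConjAct.normal_of_characteristic_of_normal
    exact h.norm_two h4 (o2_isPGroup F)
  rw [eq_bot_iff, ← h3]
  exact (inf_le_inf_left F h1).trans h2

/-- `B ≠ 1` -/
theorem B_ne [Finite M] (h : ABS H M T Y B Lam) : B ≠ ⊥ := by
  intro h1
  have h2 := h.small
  rw [h1, card_bot] at h2
  have h3 : (cv M ((⊥ : Subgroup H) : Set H)).index ≠ 0 := index_ne_zero_of_finite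
  omega

/-- a normal subgroup over `B` contains `O²(H)` -/
theorem K_le [Finite M] (h : ABS H M T Y B Lam) {F : Subgroup H} (hF : F.Normal) (hB : B ≤ F) :
    oddGen (⊤ : Subgroup H) ≤ F := by
  by_cases hFT : F ⊔ T = ⊤
  · exact oddGen_le_of_sup (by rw [normalizer_eq_top]) (by rw [hFT]) le_top le_top h.two
  · exfalso
    have h1 := h.inf_B hF hFT
    rw [inf_eq_right.2 hB] at h1
    exact h.B_ne h1

theorem K_sup (h : ABS H M T Y B Lam) : oddGen (⊤ : Subgroup H) ⊔ T = ⊤ :=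
  oddGen_sup_top le_top (by rw [relIndex_top_right]; exact h.syl)

theorem K_normal (_ : ABS H M T Y B Lam) : (oddGen (⊤ : Subgroup H)).Normal := by
  rw [← normalizer_eq_top_iff, eq_top_iff]
  exact le_normalizer_oddGen ⊤

theorem TY (h : ABS H M T Y B Lam) {v : M} (hv : v ∈ Lam) (hv1 : v ≠ 1) : T ≤ Y := fun t ht =>
  (h.stab v hv hv1 t).1 (h.fixT t ht v hv)

/-- `O²(H)` moves `v` -/
theorem K_moves (h : ABS H M T Y B Lam) {v : M} (hv : v ∈ Lam) (hv1 : v ≠ 1) :
    ¬ ∀ k ∈ oddGen (⊤ : Subgroup H), k • v = v := by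
  intro hcon
  apply h.Yne
  rw [eq_top_iff, ← h.K_sup]
  exact sup_le (fun k hk => (h.stab v hv hv1 k).1 (hcon k hk)) (h.TY hv hv1)

theorem cvK_inv (h : ABS H M T Y B Lam) (g : H) {m : M} (hm : m ∈ cv M (oddGen (⊤ : Subgroup H) : Set H)) :
    g • m ∈ cv M (oddGen (⊤ : Subgroup H) : Set H) := by
  intro k hk
  have h3 : g⁻¹ * k * g ∈ oddGen (⊤ : Subgroup H) := by
    have := h.K_normal.conj_mem k hk g⁻¹
    rwa [inv_inv] at this
  have h4 := hm _ h3
  rw [mul_smul, mul_smul, inv_smul_eq_iff] at h4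
  exact h4

theorem orb_inv (v : M) (g : H) {m : M} (hm : m ∈ orb (⊤ : Subgroup H) v) : g • m ∈ orb (⊤ : Subgroup H) v :=
  smul_mem_orb (mem_top g) hm

/-- `O²(H)` is nontrivial on `U_v / W` -/
theorem K_nt [Finite M] (h : ABS H M T Y B Lam) {v : M} (hv : v ∈ Lam) {W : Subgroup M}
    (hW : ∀ g : H, ∀ w ∈ W, g • w ∈ W)
    (hCW : cv M (oddGen (⊤ : Subgroup H) : Set H) ⊓ orb (⊤ : Subgroup H) v ≤ W) (hvW : v ∉ W) :
    ∃ k ∈ oddGen (⊤ : Subgroup H), (k • v) * v⁻¹ ∉ W := by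
  by_contra hcon
  push Not at hcon
  apply hvW
  -- all translates of `v` are in `v W`
  have hS : ∀ g : H, (g • v) * v⁻¹ ∈ W := by
    let S : Subgroup H :=
      { carrier := {g | (g • v) * v⁻¹ ∈ W}
        one_mem' := by
          show ((1 : H) • v) * v⁻¹ ∈ W
          rw [one_smul, mul_inv_cancel]; exact W.one_mem
        mul_mem' := by
          intro a b ha hb
          have h1 := W.mul_mem (hW a _ hb) ha
          have h2 : a • ((b • v) * v⁻¹) * ((a • v) * v⁻¹) = ((a * b) • v) * v⁻¹ := by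
            rw [smul_mul', smul_inv', mul_smul]; group
          rwa [h2] at h1
        inv_mem' := by
          intro a ha
          have h1 := W.inv_mem (hW a⁻¹ _ ha)
          have h2 : (a⁻¹ • ((a • v) * v⁻¹))⁻¹ = (a⁻¹ • v) * v⁻¹ := by
            rw [smul_mul', inv_smul_smul, smul_inv', mul_inv_rev, inv_inv]
          rwa [h2] at h1 }
    have h1 : S = ⊤ := by
      rw [eq_top_iff, ← h.K_sup]
      refine sup_le (fun k hk => hcon k hk) fun t ht => ?_
      show (t • v) * v⁻¹ ∈ W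
      rw [h.fixT t ht v hv, mul_inv_cancel]
      exact W.one_mem
    intro g
    have h2 : g ∈ S := by rw [h1]; exact mem_top g
    exact h2
  let _ : CommGroup M := { ‹Group M› with mul_comm := h.comm }
  have hfin : (MulAction.orbit H v).Finite := Set.toFinite _
  set s := hfin.toFinset with hs
  -- its number is odd
  have hodd : Odd s.card := by
    have h1 : (MulAction.stabilizer H v).index = (MulAction.orbit H v).ncard := MulAction.index_stabilizer H v
    have h2 : s.card = (MulAction.stabilizer H v).index := by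
      rw [h1, Set.ncard_eq_toFinset_card _ hfin]
    rw [h2]
    refine Nat.not_even_iff_odd.1 fun h3 => h.syl (h3.two_dvd.trans (index_dvd_of_le fun t ht => ?_))
    exact MulAction.mem_stabilizer_iff.2 (h.fixT t ht v hv)
  have hmem : ∀ x ∈ s, ∃ g : H, g • v = x := fun x hx => by
    rw [hs, Set.Finite.mem_toFinset] at hx
    exact hx
  set p : M := ∏ x ∈ s, x with hp
  -- `p` is fixed by `H`
  have hfix : ∀ g : H, g • p = p := by
    intro g
    rw [hp, Finset.smul_prod']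
    refine Finset.prod_bij (fun x _ => g • x) ?_ ?_ ?_ ?_
    · intro x hx
      obtain ⟨k, rfl⟩ := hmem x hx
      rw [hs, Set.Finite.mem_toFinset, ← mul_smul]
      exact MulAction.mem_orbit v _
    · intro x _ y _ hxy
      exact smul_left_cancel g hxy
    · intro x hx
      obtain ⟨k, rfl⟩ := hmem x hx
      refine ⟨g⁻¹ • k • v, ?_, smul_inv_smul _ _⟩
      rw [hs, Set.Finite.mem_toFinset, ← mul_smul]
      exact MulAction.mem_orbit v _
    · intro x _
      rfl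
  have hpU : p ∈ orb (⊤ : Subgroup H) v := by
    refine Subgroup.prod_mem _ fun x hx => ?_
    obtain ⟨k, rfl⟩ := hmem x hx
    exact smul_mem_orb_self (mem_top k)
  have hpW : p ∈ W := hCW ⟨fun k _ => hfix k, hpU⟩
  have h1 : ∏ x ∈ s, (x * v⁻¹) ∈ W := by
    refine Subgroup.prod_mem _ fun x hx => ?_
    obtain ⟨k, rfl⟩ := hmem x hx
    exact hS k
  rw [Finset.prod_mul_distrib, Finset.prod_const, ← hp] at h1
  obtain ⟨n, hn⟩ := hodd
  have h2 : v⁻¹ ^ s.card = v := by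
    rw [h.inv_eq, hn, pow_succ, pow_mul, pow_two, h.sq, one_pow, one_mul]
  rw [h2] at h1
  exact (W.mul_mem_cancel_left hpW).1 h1

/-- `{m : [m, B] ≤ W}` -/
def bw (h : ABS H M T Y B Lam) (W : Subgroup M) : Subgroup M where
  carrier := {m | ∀ b ∈ B, (b • m) * m⁻¹ ∈ W}
  one_mem' := fun b _ => by rw [smul_one, one_mul, inv_one]; exact W.one_mem
  mul_mem' := by
    intro m n hm hn b hb
    have h1 := W.mul_mem (hm b hb) (hn b hb)
    have h2 : (b • m) * m⁻¹ * ((b • n) * n⁻¹) = (b • (m * n)) * (m * n)⁻¹ := by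
      rw [smul_mul', mul_inv_rev, h.comm n⁻¹ m⁻¹, mul_assoc, ← mul_assoc m⁻¹, h.comm m⁻¹ (b • n)]
      group
    rwa [h2] at h1
  inv_mem' := by
    intro m hm b hb
    have h1 := W.inv_mem (hm b hb)
    have h2 : ((b • m) * m⁻¹)⁻¹ = (b • m⁻¹) * m⁻¹⁻¹ := by
      rw [mul_inv_rev, inv_inv, smul_inv', h.comm]
    rwa [h2] at h1

theorem mem_bw (h : ABS H M T Y B Lam) {W : Subgroup M} {m : M} :
    m ∈ h.bw W ↔ ∀ b ∈ B, (b • m) * m⁻¹ ∈ W := Iff.rfl

/-- **(ML) on `U_v / W`** -/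
theorem ml [Finite M] (h : ABS H M T Y B Lam) (hML : MLK.{u, v}) (hK : IsKGroup H) {v : M} (hv : v ∈ Lam)
    (_ : v ≠ 1) {W : Subgroup M} (hW : ∀ g : H, ∀ w ∈ W, g • w ∈ W)
    (hCW : cv M (oddGen (⊤ : Subgroup H) : Set H) ⊓ orb (⊤ : Subgroup H) v ≤ W) (hvW : v ∉ W) :
    Nat.card B ≤ (h.bw W).relIndex (orb (⊤ : Subgroup H) v) := by
  obtain ⟨k, hk, hkW⟩ := h.K_nt hv hW hCW hvW
  have := h.norm W
  let _ := quoAct (X := H) W hW
  let mk : M →* M ⧸ W := QuotientGroup.mk' W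
  have hsm : ∀ (g : H) (m : M), g • mk m = mk (g • m) := fun _ _ => rfl
  have heq : ∀ a b : M, mk a = mk b ↔ a * b⁻¹ ∈ W := by
    intro a b
    rw [← mul_inv_eq_one, ← map_inv, ← map_mul, ← MonoidHom.mem_ker, QuotientGroup.ker_mk']
  set z : M ⧸ W := mk v with hz
  have hkz : k • z ≠ z := fun e => hkW ((heq _ _).1 e)
  have hTz : ∀ t ∈ T, t • z = z := fun t ht => by rw [hz, hsm, h.fixT t ht v hv]
  have hst : B ≤ o2 (MulAction.stabilizer H z) := by
    refine h.low _ (fun t ht => MulAction.mem_stabilizer_iff.2 (hTz t ht)) fun e => hkz ?_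
    have : k ∈ MulAction.stabilizer H z := by rw [e]; exact mem_top k
    exact MulAction.mem_stabilizer_iff.1 this
  have hD : Dat T (o2 (MulAction.stabilizer H z)) B z := by
    refine ⟨?_, h.two, h.syl, hTz, ?_, ?_, ?_, ?_, ?_⟩
    · intro x
      obtain ⟨m, rfl⟩ := QuotientGroup.mk'_surjective W x
      rw [← map_mul, h.sq, map_one]
    · intro q hq
      obtain ⟨n, hn⟩ := o2_isPGroup (MulAction.stabilizer H z) ⟨q, hq⟩
      refine ⟨n, fun x => ?_⟩
      have h1 : q ^ 2 ^ n = 1 := congrArg Subtype.val hn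
      rw [h1, one_smul]
    · intro q hq
      exact MulAction.mem_stabilizer_iff.1 (o2_le _ hq)
    · intro g hg q hq
      exact ⟨_, (mem_normalizer_iff.1 (le_normalizer_o2 _ (MulAction.mem_stabilizer_iff.2 hg)) q).1 hq, fun _ => rfl⟩
    · intro a ha
      exact ⟨a, hst ha, fun _ => rfl⟩
    · intro a ha x
      rw [← mul_smul, h.el a ha, one_smul]
  have key := hML.act hK hD
  -- the left side
  have hF : fxr H (orb (⊤ : Subgroup H) z) ⊓ B = ⊥ := by
    refine h.inf_B (fxr_normal fun g u hu => smul_mem_orb (mem_top g) hu) fun e => hkz ?_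
    have h1 : oddGen (⊤ : Subgroup H) ≤ fxr H (orb (⊤ : Subgroup H) z) := by
      have hn : (fxr H (orb (⊤ : Subgroup H) z)).Normal := fxr_normal fun g u hu => smul_mem_orb (mem_top g) hu
      exact oddGen_le_of_sup (by rw [normalizer_eq_top]) (by rw [e]) le_top le_top h.two
    exact h1 hk z (mem_orb_self _ _)
  have e1 : (fxr H (orb (⊤ : Subgroup H) z)).relIndex B = Nat.card B := by
    rw [← inf_relIndex_right, hF, relIndex_bot_left]
  have e2 : orb (⊤ : Subgroup H) z = (orb (⊤ : Subgroup H) v).map mk := by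
    apply le_antisymm
    · exact orb_le fun g _ => ⟨g • v, smul_mem_orb_self (mem_top g), rfl⟩
    · rw [map_le_iff_le_comap]
      exact orb_le fun g _ => smul_mem_orb_self (z := z) (mem_top g)
  have e3 : (cv (M ⧸ W) (B : Set H)).comap mk = h.bw W := by
    ext m
    constructor
    · intro hm b hb
      exact (heq _ _).1 (hm b hb)
    · intro hm b hb
      exact (heq _ _).2 (hm b hb)
  rw [e1, e2, ← relIndex_comap, e3] at key
  exact key

/-- **(ii)** `B` centralises `W` -/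
theorem W_le [Finite M] (h : ABS H M T Y B Lam) (hML : MLK.{u, v}) (hK : IsKGroup H) {v : M} (hv : v ∈ Lam)
    (hv1 : v ≠ 1) {W : Subgroup M} (hW : ∀ g : H, ∀ w ∈ W, g • w ∈ W)
    (hCW : cv M (oddGen (⊤ : Subgroup H) : Set H) ⊓ orb (⊤ : Subgroup H) v ≤ W)
    (hWU : W ≤ orb (⊤ : Subgroup H) v) (hvW : v ∉ W) :
    W ≤ cv M (oddGen (⊤ : Subgroup H) : Set H) := by
  have h1 := h.ml hML hK hv hv1 hW hCW hvW
  have h2 : cv M (B : Set H) ⊔ W ≤ h.bw W := by
    refine sup_le (fun m hm b hb => ?_) fun m hm b hb => W.mul_mem (hW b m hm) (W.inv_mem hm)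
    rw [hm b hb, mul_inv_cancel]
    exact W.one_mem
  have h3 : (h.bw W).relIndex (orb (⊤ : Subgroup H) v) ≤ (cv M (B : Set H) ⊔ W).relIndex (orb (⊤ : Subgroup H) v) :=
    Nat.le_of_dvd (Nat.pos_of_ne_zero (relIndex_ne' _ _)) (relIndex_dvd_of_le_left _ h2)
  have h4 : (cv M (B : Set H) ⊔ W).relIndex (orb (⊤ : Subgroup H) v) ≤
      (cv M (B : Set H)).relIndex (orb (⊤ : Subgroup H) v) :=
    Nat.le_of_dvd (Nat.pos_of_ne_zero (relIndex_ne' _ _)) (relIndex_dvd_of_le_left _ le_sup_left)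
  have h5 := h.exact v hv hv1
  have h6 : (cv M (B : Set H)).relIndex (orb (⊤ : Subgroup H) v) =
      (cv M (B : Set H) ⊔ W).relIndex (orb (⊤ : Subgroup H) v) := by omega
  have h7 := inf_le_of_relIndex le_sup_left h6
  have h8 : W ≤ cv M (B : Set H) := fun w hw => h7 ⟨(le_sup_right : W ≤ _) hw, hWU hw⟩
  have h9 : B ≤ fxr H W := fun b hb w hw => h8 hw b hb
  have h10 := h.K_le (fxr_normal hW) h9
  exact fun w hw k hk => h10 hk w hw

/-- `C_M(O²(H))` -/
abbrev CK (_ : ABS H M T Y B Lam) : Subgroup M := cv M (oddGen (⊤ : Subgroup H) : Set H)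

theorem CK_inv (h : ABS H M T Y B Lam) (g : H) (m : M) (hm : m ∈ h.CK) : g • m ∈ h.CK := h.cvK_inv g hm

theorem v_nmem (h : ABS H M T Y B Lam) {v : M} (hv : v ∈ Lam) (hv1 : v ≠ 1) : v ∉ h.CK := fun h1 =>
  h.K_moves hv hv1 fun k hk => h1 k hk

/-- `U_v / C(O²(H))` is irreducible -/
theorem cases_v [Finite M] (h : ABS H M T Y B Lam) (hML : MLK.{u, v}) (hK : IsKGroup H) {v : M} (hv : v ∈ Lam)
    (hv1 : v ≠ 1) {W : Subgroup M} (hW : ∀ g : H, ∀ w ∈ W, g • w ∈ W)
    (hCW : h.CK ⊓ orb (⊤ : Subgroup H) v ≤ W) :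
    W ⊓ orb (⊤ : Subgroup H) v ≤ h.CK ∨ orb (⊤ : Subgroup H) v ≤ W := by
  by_cases hvW : v ∈ W
  · exact Or.inr (orb_le fun g _ => hW g v hvW)
  · left
    exact h.W_le hML hK hv hv1 (W := W ⊓ orb (⊤ : Subgroup H) v)
      (fun g w hw => ⟨hW g w hw.1, orb_inv v g hw.2⟩) (le_inf hCW inf_le_right) inf_le_right (fun h1 => hvW h1.1)

/-- (iii) the images of `U_v` and `U_v'` are equal -/
theorem le_sup_orb [Finite M] (h : ABS H M T Y B Lam) (hML : MLK.{u, v}) (hK : IsKGroup H) {v v' : M} (hv : v ∈ Lam)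
    (hv1 : v ≠ 1) (hv' : v' ∈ Lam) (hv1' : v' ≠ 1) :
    orb (⊤ : Subgroup H) v' ≤ h.CK ⊔ orb (⊤ : Subgroup H) v := by
  have hinv : ∀ g : H, ∀ w ∈ h.CK ⊔ orb (⊤ : Subgroup H) v, g • w ∈ h.CK ⊔ orb (⊤ : Subgroup H) v := by
    intro g w hw
    have h1 : h.CK ⊔ orb (⊤ : Subgroup H) v ≤
        (h.CK ⊔ orb (⊤ : Subgroup H) v).comap (MulDistribMulAction.toMonoidHom M g) := by
      refine sup_le (fun m hm => ?_) fun m hm => ?_
      · exact (le_sup_left : h.CK ≤ _) (h.CK_inv g m hm)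
      · exact (le_sup_right : orb (⊤ : Subgroup H) v ≤ _) (orb_inv v g hm)
    exact h1 hw
  rcases h.cases_v hML hK hv' hv1' hinv (inf_le_left.trans le_sup_left) with h1 | h1
  · exfalso
    have h2 := h.ml hML hK hv hv1 (W := h.CK ⊓ orb (⊤ : Subgroup H) v)
      (fun g w hw => ⟨h.CK_inv g w hw.1, orb_inv v g hw.2⟩) le_rfl (fun h3 => h.v_nmem hv hv1 h3.1)
    have n1 := h.norm (cv M (B : Set H))
    have n2 := h.norm (cv M (B : Set H) ⊔ orb (⊤ : Subgroup H) v')
    have h3 : (cv M (B : Set H)).relIndex (cv M (B : Set H) ⊔ orb (⊤ : Subgroup H) v') = Nat.card B := by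
      rw [sup_comm, relIndex_sup_right, h.exact v' hv' hv1']
    have h4 : (h.bw (h.CK ⊓ orb (⊤ : Subgroup H) v)).relIndex (orb (⊤ : Subgroup H) v) ≤
        (cv M (B : Set H) ⊔ orb (⊤ : Subgroup H) v').relIndex (orb (⊤ : Subgroup H) v) := by
      rw [← inf_relIndex_right (cv M (B : Set H) ⊔ orb (⊤ : Subgroup H) v')]
      refine Nat.le_of_dvd (Nat.pos_of_ne_zero (relIndex_ne' _ _)) (relIndex_dvd_of_le_left _ ?_)
      rintro x ⟨hx, hxU⟩ b hb
      have n3 := h.norm (orb (⊤ : Subgroup H) v')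
      obtain ⟨c, hc, y, hy, rfl⟩ := mem_sup_of_normal_right.1 hx
      have e1 : (b • (c * y)) * (c * y)⁻¹ = (b • y) * y⁻¹ := by
        rw [smul_mul', hc b hb, mul_inv_rev, mul_assoc, ← mul_assoc (b • y), h.comm ((b • y) * y⁻¹) c⁻¹,
          mul_inv_cancel_left]
      have h5 : (b • (c * y)) * (c * y)⁻¹ ∈ orb (⊤ : Subgroup H) v :=
        (orb (⊤ : Subgroup H) v).mul_mem (orb_inv v b hxU) ((orb (⊤ : Subgroup H) v).inv_mem hxU)
      refine ⟨?_, h5⟩
      refine h1 ⟨(le_sup_right : orb (⊤ : Subgroup H) v ≤ _) h5, ?_⟩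
      rw [e1]
      exact (orb (⊤ : Subgroup H) v').mul_mem (orb_inv v' b hy) ((orb (⊤ : Subgroup H) v').inv_mem hy)
    have h5 : (cv M (B : Set H) ⊔ orb (⊤ : Subgroup H) v').relIndex (orb (⊤ : Subgroup H) v) ≤
        (cv M (B : Set H) ⊔ orb (⊤ : Subgroup H) v').index :=
      Nat.le_of_dvd (Nat.pos_of_ne_zero index_ne_zero_of_finite) (relIndex_dvd_index_of_normal _ _)
    have h6 := relIndex_mul_index (le_sup_left : cv M (B : Set H) ≤ cv M (B : Set H) ⊔ orb (⊤ : Subgroup H) v')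
    rw [h3] at h6
    have h7 := h.small
    rw [← h6] at h7
    have h8 := Nat.mul_le_mul_left (Nat.card B) (h2.trans (h4.trans h5))
    omega
  · exact h1

theorem exists_v (h : ABS H M T Y B Lam) : ∃ v ∈ Lam, v ≠ 1 := by
  by_contra hcon
  push Not at hcon
  have h1 : Lam = ⊥ := (eq_bot_iff_forall _).2 hcon
  have h2 := h.four
  rw [h1, card_bot] at h2
  omega

theorem sup_inv (h : ABS H M T Y B Lam) (v : M) (g : H) {w : M} (hw : w ∈ h.CK ⊔ orb (⊤ : Subgroup H) v) :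
    g • w ∈ h.CK ⊔ orb (⊤ : Subgroup H) v := by
  have h1 : h.CK ⊔ orb (⊤ : Subgroup H) v ≤
      (h.CK ⊔ orb (⊤ : Subgroup H) v).comap (MulDistribMulAction.toMonoidHom M g) := by
    refine sup_le (fun m hm => ?_) fun m hm => ?_
    · exact (le_sup_left : h.CK ≤ _) (h.CK_inv g m hm)
    · exact (le_sup_right : orb (⊤ : Subgroup H) v ≤ _) (orb_inv v g hm)
  exact h1 hw

/-- `M = C_M(O²(H)) U_v` -/
theorem sup_top [Finite M] (h : ABS H M T Y B Lam) (hML : MLK.{u, v}) (hK : IsKGroup H) {v : M} (hv : v ∈ Lam)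
    (hv1 : v ≠ 1) : h.CK ⊔ orb (⊤ : Subgroup H) v = ⊤ := by
  refine h.gen _ (fun v' hv' => ?_) fun g u hu => h.sup_inv v g hu
  by_cases hv1' : v' = 1
  · rw [hv1']; exact one_mem _
  · exact h.le_sup_orb hML hK hv hv1 hv' hv1' (mem_orb_self _ _)

/-- **`M / C_M(O²(H))` is irreducible** -/
theorem irr [Finite M] (h : ABS H M T Y B Lam) (hML : MLK.{u, v}) (hK : IsKGroup H) {W : Subgroup M}
    (hW : ∀ g : H, ∀ w ∈ W, g • w ∈ W) (hCW : h.CK ≤ W) : W = h.CK ∨ W = ⊤ := by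
  obtain ⟨v, hv, hv1⟩ := h.exists_v
  have htop := h.sup_top hML hK hv hv1
  rcases h.cases_v hML hK hv hv1 hW (inf_le_left.trans hCW) with h1 | h1
  · left
    refine le_antisymm (fun w hw => ?_) hCW
    have n1 := h.norm (orb (⊤ : Subgroup H) v)
    have h2 : w ∈ h.CK ⊔ orb (⊤ : Subgroup H) v := by rw [htop]; exact mem_top w
    obtain ⟨d, hd, x, hx, rfl⟩ := mem_sup_of_normal_right.1 h2
    exact mul_mem hd (h1 ⟨(W.mul_mem_cancel_left (hCW hd)).1 hw, hx⟩)
  · right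
    rw [eq_top_iff, ← htop]
    exact sup_le hCW h1

/-- `{g : [M, g] ≤ C_M(O²(H))}` -/
def ker (h : ABS H M T Y B Lam) : Subgroup H where
  carrier := {g | ∀ m : M, (g • m) * m⁻¹ ∈ h.CK}
  one_mem' := fun m => by rw [one_smul, mul_inv_cancel]; exact h.CK.one_mem
  mul_mem' := by
    intro a b ha hb m
    have h1 := h.CK.mul_mem (h.CK_inv a _ (hb m)) (ha m)
    have h2 : a • ((b • m) * m⁻¹) * ((a • m) * m⁻¹) = ((a * b) • m) * m⁻¹ := by
      rw [smul_mul', smul_inv', mul_smul]; group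
    rwa [h2] at h1
  inv_mem' := by
    intro a ha m
    have h1 := h.CK.inv_mem (h.CK_inv a⁻¹ _ (ha m))
    have h2 : (a⁻¹ • ((a • m) * m⁻¹))⁻¹ = (a⁻¹ • m) * m⁻¹ := by
      rw [smul_mul', inv_smul_smul, smul_inv', mul_inv_rev, inv_inv]
    rwa [h2] at h1

theorem mem_ker (h : ABS H M T Y B Lam) {g : H} : g ∈ h.ker ↔ ∀ m : M, (g • m) * m⁻¹ ∈ h.CK := Iff.rfl

theorem ker_normal (h : ABS H M T Y B Lam) : h.ker.Normal := ⟨fun g hg x m => by
  have h1 := h.CK_inv x _ (hg (x⁻¹ • m))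
  have h2 : x • ((g • x⁻¹ • m) * (x⁻¹ • m)⁻¹) = ((x * g * x⁻¹) • m) * m⁻¹ := by
    rw [smul_mul', smul_inv', smul_inv_smul, mul_smul, mul_smul]
  rwa [h2] at h1⟩

/-- **`H` is faithful on `M / C_M(O²(H))`** -/
theorem ker_bot (h : ABS H M T Y B Lam) : h.ker = ⊥ := by
  have h1 : h.ker ⊓ oddGen (⊤ : Subgroup H) = ⊥ := by
    have n1 := h.ker_normal
    have n2 := h.K_normal
    refine h.norm_two (normal_inf_normal _ _) fun f => ⟨1, Subtype.ext ?_⟩
    obtain ⟨f, hf1, hf2⟩ := f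
    show f ^ 2 ^ 1 = 1
    rw [pow_one, pow_two]
    refine h.faith _ fun m => ?_
    have h2 := hf1 m f hf2
    have h3 : f • m = (f • m) * m⁻¹ * m := by rw [inv_mul_cancel_right]
    have h4 : f • f • m = f • ((f • m) * m⁻¹ * m) := congrArg (f • ·) h3
    have h5 : (f • m) * m⁻¹ * (f • m) = m := by
      rw [mul_assoc, h.comm m⁻¹ (f • m), ← mul_assoc, h.sq, one_mul, h.inv_eq]
    rw [mul_smul, h4, smul_mul', h2, h5]
  refine h.norm_two h.ker_normal fun f => ?_
  obtain ⟨f, hf⟩ := f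
  obtain ⟨a, m, hm, ha⟩ := Nat.exists_eq_pow_mul_and_not_dvd (orderOf_pos f).ne' 2 (by norm_num)
  refine ⟨a, Subtype.ext ?_⟩
  show f ^ 2 ^ a = 1
  have hm0 : 0 < m := Nat.pos_of_ne_zero (by rintro rfl; simp at hm)
  have h2 : orderOf (f ^ 2 ^ a) = m := by
    rw [orderOf_pow_of_dvd (by positivity) (ha ▸ Dvd.intro _ rfl), ha, Nat.mul_div_cancel_left _ (by positivity)]
  have h3 : f ^ 2 ^ a ∈ h.ker ⊓ oddGen (⊤ : Subgroup H) :=
    ⟨pow_mem hf _, mem_oddGen (mem_top _) (by rw [h2]; exact Nat.not_even_iff_odd.1 fun h => hm h.two_dvd)⟩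
  rw [h1] at h3
  exact mem_bot.1 h3

/-- **the stabiliser of the image of `v`** -/
theorem stab' (h : ABS H M T Y B Lam) {v : M} (hv : v ∈ Lam) (hv1 : v ≠ 1) {g : H} (hg : (g • v) * v⁻¹ ∈ h.CK) :
    g ∈ Y := by
  let S : Subgroup H :=
    { carrier := {g | (g • v) * v⁻¹ ∈ h.CK}
      one_mem' := by
        show ((1 : H) • v) * v⁻¹ ∈ h.CK
        rw [one_smul, mul_inv_cancel]; exact h.CK.one_mem
      mul_mem' := by
        intro a b ha hb
        have h1 := h.CK.mul_mem (h.CK_inv a _ hb) ha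
        have h2 : a • ((b • v) * v⁻¹) * ((a • v) * v⁻¹) = ((a * b) • v) * v⁻¹ := by
          rw [smul_mul', smul_inv', mul_smul]; group
        rwa [h2] at h1
      inv_mem' := by
        intro a ha
        have h1 := h.CK.inv_mem (h.CK_inv a⁻¹ _ ha)
        have h2 : (a⁻¹ • ((a • v) * v⁻¹))⁻¹ = (a⁻¹ • v) * v⁻¹ := by
          rw [smul_mul', inv_smul_smul, smul_inv', mul_inv_rev, inv_inv]
        rwa [h2] at h1 }
  have hTS : T ≤ S := fun t ht => by
    show (t • v) * v⁻¹ ∈ h.CK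
    rw [h.fixT t ht v hv, mul_inv_cancel]
    exact h.CK.one_mem
  have hSyl : ¬ 2 ∣ T.relIndex S := fun h1 => h.syl (h1.trans (relIndex_dvd_index_of_le hTS))
  have h1 : S ≤ Y := by
    rw [← oddGen_sup_top hTS hSyl]
    refine sup_le ?_ (h.TY hv hv1)
    rw [oddGen_def, closure_le]
    rintro x ⟨hx, ho⟩
    have hxK : x ∈ oddGen (⊤ : Subgroup H) := mem_oddGen (mem_top x) ho
    set d := (x • v) * v⁻¹ with hd
    have hxv : x • v = d * v := by rw [hd, inv_mul_cancel_right]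
    have hxd : x • d = d := hx x hxK
    have key : ∀ n : ℕ, x ^ n • v = d ^ n * v := by
      intro n
      induction n with
      | zero => rw [pow_zero, pow_zero, one_smul, one_mul]
      | succ n ih => rw [pow_succ', mul_smul, ih, smul_mul', smul_pow', hxd, hxv, ← mul_assoc, ← pow_succ]
    have h2 := key (orderOf x)
    rw [pow_orderOf_eq_one, one_smul] at h2
    obtain ⟨n, hn⟩ := ho
    rw [hn, pow_succ, pow_mul, pow_two, h.sq, one_pow, one_mul] at h2
    refine (h.stab v hv hv1 x).1 ?_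
    rw [hxv, ← h2]
  exact h1 hg

/-- **`B` is exact on `M / C_M(O²(H))`** -/
theorem exactN [Finite M] (h : ABS H M T Y B Lam) (hML : MLK.{u, v}) (hK : IsKGroup H) :
    (h.bw h.CK).index = Nat.card B := by
  obtain ⟨v, hv, hv1⟩ := h.exists_v
  have htop := h.sup_top hML hK hv hv1
  have n1 := h.norm (h.bw h.CK)
  have hD : h.CK ≤ h.bw h.CK := fun m hm b hb => mul_mem (h.CK_inv b m hm) (inv_mem hm)
  have h1 : orb (⊤ : Subgroup H) v ⊔ h.bw h.CK = ⊤ := by
    rw [eq_top_iff, ← htop]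
    exact sup_le (hD.trans le_sup_right) le_sup_left
  have h2 : (h.bw h.CK).index = (h.bw h.CK).relIndex (orb (⊤ : Subgroup H) v) := by
    rw [← relIndex_sup_right, h1, relIndex_top_right]
  rw [h2]
  apply le_antisymm
  · rw [← h.exact v hv hv1]
    refine Nat.le_of_dvd (Nat.pos_of_ne_zero (relIndex_ne' _ _)) (relIndex_dvd_of_le_left _ ?_)
    intro m hm b hb
    rw [hm b hb, mul_inv_cancel]
    exact one_mem _
  · refine (h.ml hML hK hv hv1 (W := h.CK ⊓ orb (⊤ : Subgroup H) v)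
      (fun g w hw => ⟨h.CK_inv g w hw.1, orb_inv v g hw.2⟩) le_rfl (fun h3 => h.v_nmem hv hv1 h3.1)).trans ?_
    rw [← inf_relIndex_right (h.bw h.CK)]
    refine Nat.le_of_dvd (Nat.pos_of_ne_zero (relIndex_ne' _ _)) (relIndex_dvd_of_le_left _ ?_)
    rintro m ⟨hm, hmU⟩ b hb
    exact ⟨hm b hb, (orb (⊤ : Subgroup H) v).mul_mem (orb_inv v b hmU) ((orb (⊤ : Subgroup H) v).inv_mem hmU)⟩

end ABS

/-- **The output of (4)**: the irreducible module. -/
structure IR (H : Type u) [Group H] (N : Type v) [Group N] [MulDistribMulAction H N] (T Y B : Subgroup H)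
    (Lam : Subgroup N) : Prop where
  sq : ∀ m : N, m * m = 1
  faith : ∀ h : H, (∀ m : N, h • m = m) → h = 1
  irr : ∀ W : Subgroup N, (∀ h : H, ∀ w ∈ W, h • w ∈ W) → W = ⊥ ∨ W = ⊤
  two : IsPGroup 2 T
  syl : ¬ 2 ∣ T.index
  fixT : ∀ t ∈ T, ∀ v ∈ Lam, t • v = v
  four : 4 ≤ Nat.card Lam
  stab : ∀ v ∈ Lam, v ≠ 1 → ∀ h : H, h • v = v ↔ h ∈ Y
  Yne : Y ≠ ⊤
  BT : B ≤ T
  el : ∀ b ∈ B, b * b = 1
  ne : B ≠ ⊥
  low : ∀ R : Subgroup H, T ≤ R → R ≠ ⊤ → B ≤ o2 R
  exact : (cv N (B : Set H)).index = Nat.card B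

/-- **(4) of #22122** -/
theorem ABS.out {H : Type u} [Group H] [Finite H] {M : Type v} [Group M] [Finite M] [MulDistribMulAction H M]
    {T Y B : Subgroup H} {Lam : Subgroup M} (h : ABS H M T Y B Lam) (hML : MLK.{u, v}) (hK : IsKGroup H) :
    ∃ (N : Type v) (_ : Group N) (_ : Finite N) (_ : MulDistribMulAction H N) (π : M →* N), Function.Surjective π ∧
      (∀ (g : H) (m : M), π (g • m) = g • π m) ∧
      (∀ m : M, π m = 1 ↔ m ∈ cv M (oddGen (⊤ : Subgroup H) : Set H)) ∧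
      (∀ v ∈ Lam, v ≠ 1 → π v ≠ 1) ∧ IR H N T Y B (Lam.map π) := by
  have hn := h.norm h.CK
  let _ := quoAct (X := H) h.CK h.CK_inv
  let mk : M →* M ⧸ h.CK := QuotientGroup.mk' h.CK
  have hsm : ∀ (g : H) (m : M), mk (g • m) = g • mk m := fun _ _ => rfl
  have hone : ∀ m : M, mk m = 1 ↔ m ∈ h.CK := fun m => QuotientGroup.eq_one_iff m
  have heq : ∀ a b : M, mk a = mk b ↔ a * b⁻¹ ∈ h.CK := by
    intro a b
    rw [← mul_inv_eq_one, ← map_inv, ← map_mul, hone]
  have hv1 : ∀ v ∈ Lam, v ≠ 1 → mk v ≠ 1 := fun v hv hv1 e => h.v_nmem hv hv1 ((hone v).1 e)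
  refine ⟨M ⧸ h.CK, inferInstance, inferInstance, inferInstance, mk, QuotientGroup.mk'_surjective _, hsm, hone, hv1,
    ?_, ?_, ?_, h.two, h.syl, ?_, ?_, ?_, h.Yne, h.BT, h.el, h.B_ne, h.low, ?_⟩
  · intro x
    obtain ⟨m, rfl⟩ := QuotientGroup.mk'_surjective h.CK x
    rw [← map_mul, h.sq, map_one]
  · intro g hg
    have h1 : g ∈ h.ker := fun m => (heq _ _).1 (hg (mk m))
    rw [h.ker_bot] at h1
    exact mem_bot.1 h1
  · intro W hW
    have h1 : h.CK ≤ W.comap mk := fun m hm => by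
      rw [mem_comap, (hone m).2 hm]
      exact one_mem _
    rcases h.irr hML hK (W := W.comap mk) (fun g m hm => hW g _ hm) h1 with h2 | h2
    · left
      rw [eq_bot_iff]
      intro x hx
      obtain ⟨m, rfl⟩ := QuotientGroup.mk'_surjective h.CK x
      have h3 : m ∈ W.comap mk := hx
      rw [h2] at h3
      exact mem_bot.2 ((hone m).2 h3)
    · right
      rw [eq_top_iff]
      intro x _
      obtain ⟨m, rfl⟩ := QuotientGroup.mk'_surjective h.CK x
      have h3 : m ∈ W.comap mk := by rw [h2]; exact mem_top m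
      exact h3
  · rintro t ht _ ⟨v, hv, rfl⟩
    rw [← hsm, h.fixT t ht v hv]
  · have h1 : Nat.card Lam ≤ Nat.card (Lam.map mk) := by
      refine Nat.card_le_card_of_injective (fun v : Lam => (⟨mk v, v, v.2, rfl⟩ : Lam.map mk)) ?_
      intro v w hvw
      have h2 : mk (v : M) = mk (w : M) := congrArg Subtype.val hvw
      have h3 : mk ((v : M) * (w : M)⁻¹) = 1 := by rw [map_mul, map_inv, h2, mul_inv_cancel]
      by_contra hne
      refine hv1 _ (Lam.mul_mem v.2 (Lam.inv_mem w.2)) (fun e => hne (Subtype.ext (mul_inv_eq_one.1 e))) h3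
    exact h.four.trans h1
  · rintro _ ⟨v, hv, rfl⟩ hne g
    have hv0 : v ≠ 1 := by
      rintro rfl
      exact hne (map_one mk)
    constructor
    · intro e
      exact h.stab' hv hv0 ((heq _ _).1 e)
    · intro hg
      rw [← hsm, (h.stab v hv hv0 g).2 hg]
  · have h1 : (cv (M ⧸ h.CK) (B : Set H)).comap mk = h.bw h.CK := by
      ext m
      constructor
      · intro hm b hb
        exact (heq _ _).1 (hm b hb)
      · intro hm b hb
        exact (heq _ _).2 (hm b hb)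
    rw [← h.exactN hML hK, ← h1, index_comap_of_surjective _ (QuotientGroup.mk'_surjective _)]

end Cfsg.Agent.Omega.NO3b.EndX

end

section


/-!
# The exact end of NotFF (v2), P3: from the irreducible module to the module `⟨lam^H⟩`

**`absP_of`** : `MLK → AbsIP → AbsP`.
-/

set_option autoImplicit false

namespace Cfsg.Agent.Omega.NO3b.EndX

open Subgroup Cfsg Cfsg.Agent.ZN Cfsg.Agent.ClassTwoFusion.Quad Cfsg.Agent.Omega.ML.MinFrame
open Cfsg.Agent.Omega.FFBr (odd mem_odd)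
open Cfsg.Agent.Omega.ML.Final (MLK)
open Cfsg.Agent.MinSimple.VModule

universe u v

section

variable {H : Type u} [Group H] {M : Type v} [Group M] [MulDistribMulAction H M] {T B Y : Subgroup H}
  {lam : Subgroup M}

theorem oddGen_top_eq_oo : oddGen (⊤ : Subgroup H) = oo H := by
  rw [oddGen_def, oo]
  congr 1
  ext x
  exact ⟨fun h => h.2, fun h => ⟨mem_top x, h⟩⟩

theorem mem_odd_iff_cv {m : M} : m ∈ odd H M ↔ m ∈ cv M (oddGen (⊤ : Subgroup H) : Set H) := by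
  constructor
  · intro hm
    have h1 : oddGen (⊤ : Subgroup H) ≤ MulAction.stabilizer H m := by
      rw [oddGen_def, closure_le]
      rintro x ⟨-, hx⟩
      exact hm x hx
    exact fun k hk => h1 hk
  · intro hm x hx
    exact hm x (mem_oddGen (mem_top x) hx)

/-- `Abs` is `ABS` -/
theorem Abs.toABS (h : Abs T B Y lam) : ABS H M T Y B lam where
  sq := h.sq
  faith := h.faith
  two := h.two
  syl := h.syl
  fixT t ht v hv := by
    by_cases hv1 : v = 1
    · rw [hv1, smul_one]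
    · exact (h.stab v hv hv1 t).2 (h.TY ht)
  four := h.four
  stab := h.stab
  Yne := h.Yne
  gen U hU hinv := h.gen U fun g v hv => hinv g v (hU hv)
  BT := h.BT
  el := h.el
  low := h.low
  exact := h.exact
  small := by
    have := h.lt
    rwa [pow_two] at this

end

/-- **P3 of the exact end** -/
theorem absP_of (hML : MLK.{u, v}) (hI : AbsIP.{u, v}) : AbsP.{u, v} := by
  intro H _ _ M _ _ _ T B Y lam hK hO h
  obtain ⟨N, iN, fN, aN, π, hsurj, hsm, hone, hne, hir⟩ := h.toABS.out hML hK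
  have hI2 : AbsI T B Y (lam.map π) :=
    { sq := hir.sq
      faith := hir.faith
      irr := hir.irr
      two := h.two
      syl := h.syl
      stab := hir.stab
      TY := h.TY
      Yne := h.Yne
      four := hir.four
      BT := h.BT
      Bne := h.Bne
      el := h.el
      low := h.low
      exact := hir.exact }
  have hodd : odd H N = ⊥ := by
    rcases hir.irr (odd H N) (fun g w hw x hx => by
      have h1 : Odd (orderOf (g⁻¹ * x * g)) := by
        have h0 : orderOf (MulAut.conj g⁻¹ x) = orderOf x := MulEquiv.orderOf_eq _ _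
        rw [MulAut.conj_apply, inv_inv] at h0
        rwa [h0]
      have h2 := hw _ h1
      rw [mul_smul, mul_smul, inv_smul_eq_iff] at h2
      exact h2) with h1 | h1
    · exact h1
    · exfalso
      have h2 : oddGen (⊤ : Subgroup H) = ⊥ := by
        rw [eq_bot_iff]
        intro k hk
        refine mem_bot.2 (hir.faith k fun m => ?_)
        have h3 : m ∈ odd H N := by rw [h1]; exact mem_top m
        exact mem_odd_iff_cv.1 h3 k hk
      have h3 := h.toABS.K_sup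
      rw [h2, bot_sup_eq] at h3
      exact h.Yne (top_unique (h3.symm.le.trans h.TY))
  intro v hv hv1 v' hv'
  have h1 := hI H N T B Y (lam.map π) hK hO hI2 (π v) ⟨v, hv, rfl⟩ (hne v hv hv1) (π v') ⟨v', hv', rfl⟩
  rw [hodd, sup_bot_eq] at h1
  have h2 : closure {m : N | ∃ n ∈ normalizer ((T ⊓ oo H : Subgroup H) : Set H), m = n • π v} ≤
      (closure {m : M | ∃ n ∈ normalizer ((T ⊓ oo H : Subgroup H) : Set H), m = n • v}).map π := by
    rw [closure_le]
    rintro _ ⟨n, hn, rfl⟩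
    exact ⟨n • v, subset_closure ⟨n, hn, rfl⟩, hsm n v⟩
  obtain ⟨u, hu, huv⟩ := h2 h1
  have h3 : π (v' * u⁻¹) = 1 := by rw [map_mul, map_inv, huv, mul_inv_cancel]
  have h4 : v' * u⁻¹ ∈ odd H M := mem_odd_iff_cv.2 ((hone _).1 h3)
  have h5 : v' = u * (u⁻¹ * v') := by rw [mul_inv_cancel_left]
  rw [h5]
  refine mul_mem_sup hu ?_
  rwa [h.toABS.comm u⁻¹ v']

end Cfsg.Agent.Omega.NO3b.EndX

end

section


/-!
# The exact end: tools and (ML) for sections `⟨v^X⟩ Z / Z`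

* `ml_sec` : `|A : C_A(⟨v^X⟩ Z / Z)| ≤ |⟨v^X⟩ Z / Z : C(A)|` for `A ≤ O₂(C_X(v Z))`.
-/

set_option autoImplicit false

namespace Cfsg.Agent.Omega.NO3b.ExEnd

open Subgroup Cfsg Cfsg.Agent.ZN Cfsg.Agent.ClassTwoFusion.Quad Cfsg.Agent.Omega.ML.MinFrame Pointwise
open Cfsg.Agent.MinSimple.VModule (o2_isPGroup o2_le le_o2 le_normalizer_o2 o2_le_of_sylow)
open Cfsg.Agent.Omega.ML.Final (MLK Dat kgroup_of_surj)

universe u v

variable {C : Type u} [Group C] {W : Type v} [CommGroup W] [MulDistribMulAction C W]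

section tools

variable {Z Z' : Subgroup W} {X : Subgroup C} {c x : C} {v z : W} {S : Set W}

theorem cm_mono (h : Z ≤ Z') (F : Set C) : cm Z F ≤ cm Z' F := fun _ hw a ha => h (hw a ha)

theorem cm_anti (Z : Subgroup W) {F F' : Set C} (h : F ⊆ F') : cm Z F' ≤ cm Z F := fun _ hw a ha => hw a (h ha)

theorem le_cm {F : Set C} (h : ∀ a ∈ F, a ∈ iv (C := C) Z) : Z ≤ cm Z F :=
  fun _ hz a ha => mul_mem (inv_mem hz) (h a ha _ hz).1

theorem le_iv (h : ∀ x ∈ X, ∀ z ∈ Z, x • z ∈ Z) : X ≤ iv Z :=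
  fun x hx z hz => ⟨h x hx z hz, h _ (inv_mem hx) z hz⟩

theorem le_iv_orb (X : Subgroup C) (v : W) : X ≤ iv (orb X v) := le_iv fun _ hx _ hz => smul_mem_orb hx hz

theorem le_iv_sup (h : X ≤ iv Z) (h' : X ≤ iv Z') : X ≤ iv (Z ⊔ Z') := by
  refine le_iv fun x hx z hz => ?_
  have h1 : Z ⊔ Z' ≤ (Z ⊔ Z').comap (MulDistribMulAction.toMonoidHom W x) :=
    sup_le (fun a ha => (le_sup_left : Z ≤ Z ⊔ Z') (h hx a ha).1)
      (fun a ha => (le_sup_right : Z' ≤ Z ⊔ Z') (h' hx a ha).1)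
  exact h1 hz

theorem km_le_iv : km C S Z ≤ iv Z := fun _ h => h.1

theorem km_anti {S S' : Set W} (h : S ⊆ S') : km C S' Z ≤ km C S Z := fun _ hc => ⟨hc.1, fun s hs => hc.2 s (h hs)⟩

/-- `[v^x, c] = [v, c^(x⁻¹)]^x` -/
theorem comm_smul (x c : C) (v : W) : (x • v)⁻¹ * c • x • v = x • (v⁻¹ * (x⁻¹ * c * x) • v) := by
  rw [smul_mul', smul_inv', ← mul_smul, ← mul_smul]
  congr 2
  group

theorem mem_km_orb : c ∈ km C (orb X v : Set W) Z ↔ c ∈ iv (C := C) Z ∧ ∀ x ∈ X, (x • v)⁻¹ * c • x • v ∈ Z := by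
  constructor
  · exact fun h => ⟨h.1, fun x hx => h.2 _ (smul_mem_orb_self hx)⟩
  · rintro ⟨h1, h2⟩
    have h3 : orb X v ≤ cm Z ({c} : Set C) := orb_le fun x hx a ha => by
      rw [Set.mem_singleton_iff.1 ha]
      exact h2 x hx
    exact ⟨h1, fun s hs => h3 hs c rfl⟩

/-- `X` normalises `C_X(U mod Z)` -/
theorem conj_mem_km (hX : X ≤ iv Z) (hS : ∀ x ∈ X, ∀ s ∈ S, x • s ∈ S) (hx : x ∈ X) (hc : c ∈ km C S Z) :
    x * c * x⁻¹ ∈ km C S Z := by
  refine ⟨mul_mem (mul_mem (hX hx) hc.1) (inv_mem (hX hx)), fun s hs => ?_⟩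
  have h1 := hc.2 _ (hS _ (inv_mem hx) s hs)
  have h2 := comm_smul x⁻¹ c s
  rw [inv_inv] at h2
  rw [h2] at h1
  have h3 := (hX hx _ h1).1
  rwa [smul_inv_smul] at h3

theorem norm_km (hX : X ≤ iv Z) (hS : ∀ x ∈ X, ∀ s ∈ S, x • s ∈ S) :
    X ≤ normalizer ((km C S Z : Subgroup C) : Set C) := by
  intro x hx
  rw [mem_normalizer_iff]
  refine fun c => ⟨conj_mem_km hX hS hx, fun hc => ?_⟩
  have h1 := conj_mem_km hX hS (inv_mem hx) hc
  have e : x⁻¹ * (x * c * x⁻¹) * x⁻¹⁻¹ = c := by group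
  rwa [e] at h1

theorem le_norm_inf {A B X : Subgroup C} (hA : X ≤ normalizer (A : Set C)) (hB : X ≤ normalizer (B : Set C)) :
    X ≤ normalizer ((A ⊓ B : Subgroup C) : Set C) := by
  intro x hx
  rw [mem_normalizer_iff]
  intro c
  rw [mem_inf, mem_inf, mem_normalizer_iff.1 (hA hx) c, mem_normalizer_iff.1 (hB hx) c]

/-- `O₂(N) ≤ O₂(X)` for `N ⊴ X` -/
theorem o2_le_o2 {N X : Subgroup C} (hNX : N ≤ X) (hn : X ≤ normalizer (N : Set C)) : o2 N ≤ o2 X := by
  refine le_o2 ((o2_le N).trans hNX) (o2_isPGroup N) ?_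
  intro x hx
  have h1 := Cfsg.Agent.MinSimple.CosetFam.o2_conj x N
  have h2 : MulAut.conj x • N = N := Subgroup.mem_normalizer_iff_map_conj_eq.1 (hn hx)
  rw [h2] at h1
  exact Subgroup.mem_normalizer_iff_map_conj_eq.2 h1.symm

/-- `A ∩ N ≤ O₂(X)` for `A ≤ O₂(Y)`, `N ≤ Y`, `N ⊴ X` -/
theorem inf_le_o2 {A N X Y : Subgroup C} (hA : A ≤ o2 Y) (hNY : N ≤ Y) (hNX : N ≤ X)
    (hn : X ≤ normalizer (N : Set C)) : A ⊓ N ≤ o2 X := by
  have h1 : o2 Y ⊓ N ≤ o2 N := le_o2 inf_le_right ((o2_isPGroup Y).to_le inf_le_left)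
    (le_norm_inf (hNY.trans (le_normalizer_o2 Y)) le_normalizer)
  exact (inf_le_inf_right N hA).trans (h1.trans (o2_le_o2 hNX hn))

theorem inf_le_o2' {A Y R : Subgroup C} (hA : A ≤ o2 Y) (hAR : A ≤ R) (hRY : R ≤ Y) : A ≤ o2 R := by
  refine (le_inf hA hAR).trans (le_o2 inf_le_right ((o2_isPGroup Y).to_le inf_le_left) ?_)
  exact le_norm_inf (hRY.trans (le_normalizer_o2 Y)) le_normalizer

end tools

/-- the action on a quotient -/
abbrev quoAct {X : Type*} [Group X] {U : Type*} [CommGroup U] [MulDistribMulAction X U] (D : Subgroup U)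
    (hD : ∀ x : X, ∀ d ∈ D, x • d ∈ D) : MulDistribMulAction X (U ⧸ D) where
  smul x := QuotientGroup.map D D (MulDistribMulAction.toMonoidHom U x) fun d hd => hD x d hd
  one_smul q := by
    obtain ⟨u, rfl⟩ := QuotientGroup.mk_surjective q
    exact congrArg (QuotientGroup.mk (s := D)) (one_smul X u)
  mul_smul x y q := by
    obtain ⟨u, rfl⟩ := QuotientGroup.mk_surjective q
    exact congrArg (QuotientGroup.mk (s := D)) (mul_smul x y u)
  smul_mul x p q := map_mul (QuotientGroup.map D D (MulDistribMulAction.toMonoidHom U x) fun d hd => hD x d hd) p q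
  smul_one x := map_one (QuotientGroup.map D D (MulDistribMulAction.toMonoidHom U x) fun d hd => hD x d hd)

/-- **(ML) for a section** -/
theorem ml_sec [Finite C] [Finite W] (ml : MLK.{u, v}) (hK : IsKGroup C) (sq : ∀ w : W, w * w = 1)
    {T X : Subgroup C} (hT : IsPGroup 2 T) (hodd : ¬ 2 ∣ T.relIndex X) {Z : Subgroup W}
    (hZ : X ≤ iv Z) {v : W} (hTv : T ≤ km C ({v} : Set W) Z) {A : Subgroup C}
    (hA : A ≤ o2 (X ⊓ km C ({v} : Set W) Z)) (hsq : ∀ a ∈ A, a * a = 1) :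
    (km C (orb X v : Set W) Z).relIndex A ≤ (cm Z (A : Set C)).relIndex (orb X v) := by
  have hAX : A ≤ X := (hA.trans (o2_le _)).trans inf_le_left
  let _ : MulDistribMulAction X (W ⧸ Z) := quoAct Z fun x d hd => (hZ x.2 d hd).1
  set mk : W →* W ⧸ Z := QuotientGroup.mk' Z with hmk
  have hsm : ∀ (g : X) (w : W), g • mk w = mk ((g : C) • w) := fun _ _ => rfl
  have heq : ∀ a b : W, mk a = mk b ↔ a⁻¹ * b ∈ Z := fun a b => QuotientGroup.eq
  have hfix : ∀ (g : X) (w : W), g • mk w = mk w ↔ w⁻¹ * (g : C) • w ∈ Z := by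
    intro g w
    rw [hsm, eq_comm, heq]
  set Q := o2 (X ⊓ km C ({v} : Set W) Z) with hQ
  have hQX : Q ≤ X := (o2_le _).trans inf_le_left
  have hD : Dat (C := X) (V := W ⧸ Z) (T.subgroupOf X) (Q.subgroupOf X) (A.subgroupOf X) (mk v) := by
    refine ⟨?_, hT.comap_of_injective _ X.subtype_injective, hodd, ?_, ?_, ?_, ?_, ?_, ?_⟩
    · intro q
      obtain ⟨w, rfl⟩ := QuotientGroup.mk'_surjective Z q
      rw [← map_mul, sq, map_one]
    · exact fun t ht => (hfix t v).2 ((hTv ht).2 v rfl)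
    · intro q hq
      obtain ⟨n, hn⟩ := o2_isPGroup (X ⊓ km C ({v} : Set W) Z) ⟨q, hq⟩
      refine ⟨n, fun w => ?_⟩
      have h2 : (q : C) ^ 2 ^ n = 1 := congrArg Subtype.val hn
      have h1 : q ^ 2 ^ n = 1 := Subtype.ext h2
      rw [h1, one_smul]
    · exact fun q hq => (hfix q v).2 (((o2_le _) hq).2.2 v rfl)
    · intro g hg q hq
      have h1 : (g : C) ∈ X ⊓ km C ({v} : Set W) Z := ⟨g.2, hZ g.2, fun s hs => by
        rw [Set.mem_singleton_iff.1 hs]
        exact (hfix g v).1 hg⟩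
      exact ⟨g * q * g⁻¹, (mem_normalizer_iff.1 (le_normalizer_o2 _ h1) _).1 hq, fun _ => rfl⟩
    · exact fun a ha => ⟨a, hA ha, fun _ => rfl⟩
    · intro a ha w
      have h1 : a * a = 1 := Subtype.ext (hsq a ha)
      rw [← mul_smul, h1, one_smul]
  have key := ml.act (kgroup_of_surj hK X (MonoidHom.id X) fun x => ⟨x, rfl⟩) hD
  have horb : (orb X v).map mk = orb (⊤ : Subgroup X) (mk v) := by
    apply le_antisymm
    · rw [map_le_iff_le_comap]
      refine orb_le fun g hg => ?_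
      rw [mem_comap, ← hsm ⟨g, hg⟩ v]
      exact smul_mem_orb_self (mem_top _)
    · exact orb_le fun g _ => ⟨(g : C) • v, smul_mem_orb_self g.2, rfl⟩
  have hcv : (cv (W ⧸ Z) ((A.subgroupOf X : Subgroup X) : Set X)).comap mk = cm Z (A : Set C) := by
    ext w
    constructor
    · exact fun h a ha => (hfix ⟨a, hAX ha⟩ w).1 (h ⟨a, hAX ha⟩ ha)
    · exact fun h a ha => (hfix a w).2 (h a ha)
  have hfx : fxr X (orb (⊤ : Subgroup X) (mk v)) = (km C (orb X v : Set W) Z).subgroupOf X := by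
    ext g
    rw [mem_fxr_orb, mem_subgroupOf, mem_km_orb]
    constructor
    · exact fun h => ⟨hZ g.2, fun x hx => (hfix g _).1 (h ⟨x, hx⟩ (mem_top _))⟩
    · exact fun h x _ => (hfix g _).2 (h.2 x x.2)
  rw [← horb, ← relIndex_comap, hcv, horb, hfx, relIndex_subgroupOf hAX] at key
  exact key

end Cfsg.Agent.Omega.NO3b.ExEnd

end

section


/-!
# The exact end, (1), (2): the choice of `B₁` and `X`

* `Good T D Λ P B E` : `E ≤ B`, `B ≤ O₂(P)` and (i) `|⟨v^C⟩ : C(B)| = |B : E|` for all `v ∈ Λ \ D`;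
* **`Pick h X B₁`** : `B₁` minimal with (i), (ii), `X` minimal with `T ≤ X`, `B₁ ≰ O₂(X)`;
  `Pick.low`, `Pick.cent` : `C_{B₁}(⟨v^X⟩) = B₁ ∩ O₂(X)`, **`Pick.ex`**, **`Pick.lt`** : the counts.
-/

set_option autoImplicit false

namespace Cfsg.Agent.Omega.NO3b.ExEnd

open Subgroup Cfsg Cfsg.Agent.ZN Cfsg.Agent.ClassTwoFusion.Quad Cfsg.Agent.Omega.ML.MinFrame
open Cfsg.Agent.MinSimple.VModule (o2_isPGroup o2_le le_o2 le_normalizer_o2 o2_le_of_sylow)
open Cfsg.Agent.Omega.ML.Final (MLK)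

universe u v

variable {C : Type u} [Group C] {W : Type v} [CommGroup W] [MulDistribMulAction C W]

theorem rel_pos {G : Type*} [Group G] [Finite G] (A B : Subgroup G) : 0 < A.relIndex B :=
  Nat.pos_of_ne_zero index_ne_zero_of_finite

theorem rel_anti {G : Type*} [Group G] [Finite G] {A B : Subgroup G} (h : A ≤ B) (K : Subgroup G) :
    B.relIndex K ≤ A.relIndex K := relIndex_le_of_le_left h index_ne_zero_of_finite

theorem rel_mono {G : Type*} [Group G] [Finite G] {B K : Subgroup G} (h : B ≤ K) (A : Subgroup G) :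
    A.relIndex B ≤ A.relIndex K := relIndex_le_of_le_right h index_ne_zero_of_finite

/-- `|L : H| = |K ∩ L : H ∩ L| |L : K|` -/
theorem rel_chain {G : Type*} [Group G] {A K : Subgroup G} (h : A ≤ K) (L : Subgroup G) :
    A.relIndex (K ⊓ L) * K.relIndex L = A.relIndex L := by
  rw [relIndex_inf_mul_relIndex, inf_eq_left.2 h]

section basic

variable {T : Subgroup C} {D Λ : Subgroup W} {P B E : Subgroup C} (h : Pnt T D Λ P B E)
include h

theorem Pnt.iv_D (c : C) : c ∈ iv (C := C) D := fun d hd => by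
  rw [h.fixD c d hd, h.fixD c⁻¹ d hd]
  exact ⟨hd, hd⟩

theorem Pnt.mem_P {v : W} (hv : v ∈ Λ) (hvD : v ∉ D) {c : C} : c ∈ P ↔ c ∈ km C ({v} : Set W) D := by
  rw [h.stab v hv hvD c, mem_km]
  exact ⟨fun hc => ⟨h.iv_D c, fun s hs => by rw [Set.mem_singleton_iff.1 hs]; exact hc⟩, fun hc => hc.2 v rfl⟩

/-- elements of a subgroup of `P` normalised by `X` centralise `⟨v^X⟩` mod `D` -/
theorem Pnt.le_km {v : W} (hv : v ∈ Λ) (hvD : v ∉ D) {X N : Subgroup C} (hNP : N ≤ P)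
    (hn : X ≤ normalizer (N : Set C)) : N ≤ km C (orb X v : Set W) D := by
  intro c hc
  rw [mem_km_orb]
  refine ⟨h.iv_D c, fun x hx => ?_⟩
  rw [comm_smul, h.fixD]
  · exact (h.stab v hv hvD _).1 (hNP ((mem_normalizer_iff''.1 (hn hx) c).1 hc))
  · exact (h.stab v hv hvD _).1 (hNP ((mem_normalizer_iff''.1 (hn hx) c).1 hc))

/-- `B ∩ C(⟨v^X⟩ mod D) ≤ O₂(X)` -/
theorem Pnt.cent_le {v : W} (hv : v ∈ Λ) (hvD : v ∉ D) {X B₁ : Subgroup C} (hB₁ : B₁ ≤ B) (hBX : B₁ ≤ X) :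
    B₁ ⊓ km C (orb X v : Set W) D ≤ o2 X := by
  have h1 : B₁ ⊓ (X ⊓ km C (orb X v : Set W) D) ≤ o2 X := by
    refine inf_le_o2 (Y := P) (hB₁.trans h.BP) ?_ inf_le_left
      (le_norm_inf le_normalizer (norm_km (fun x _ => h.iv_D x) fun x hx s hs => smul_mem_orb hx hs))
    intro c hc
    exact (h.mem_P hv hvD).2 (km_anti (Set.singleton_subset_iff.2 (mem_orb_self X v)) hc.2)
  exact (le_inf inf_le_left (le_inf (inf_le_left.trans hBX) inf_le_right)).trans h1

theorem Pnt.exists_v [Finite W] : ∃ v ∈ Λ, v ∉ D := by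
  by_contra hc
  push Not at hc
  have h1 := card_le_of_le (show Λ ≤ D from hc)
  have h2 := h.four
  have h3 : 0 < Nat.card D := Nat.card_pos
  omega

theorem Pnt.BT [Finite C] : B ≤ T := by
  have h1 : ¬ 2 ∣ T.relIndex P := fun h2 => h.odd (by
    rw [← relIndex_mul_index h.TP]
    exact h2.mul_right _)
  exact h.BP.trans (o2_le_of_sylow h.two h1)

theorem Pnt.o2T [Finite C] {X : Subgroup C} (hTX : T ≤ X) : o2 X ≤ T := by
  have h1 : ¬ 2 ∣ T.relIndex X := fun h2 => h.odd (by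
    rw [← relIndex_mul_index hTX]
    exact h2.mul_right _)
  exact o2_le_of_sylow h.two h1

theorem Pnt.odd_rel {X : Subgroup C} (hTX : T ≤ X) : ¬ 2 ∣ T.relIndex X := fun h2 => h.odd (by
    rw [← relIndex_mul_index hTX]
    exact h2.mul_right _)

theorem Pnt.E_eq {v : W} (hv : v ∈ Λ) (hvD : v ∉ D) : B ⊓ km C (orb (⊤ : Subgroup C) v : Set W) D = E := by
  ext b
  rw [mem_inf, mem_km_orb]
  constructor
  · rintro ⟨h1, -, h2⟩
    exact (h.mem_E v hv hvD b h1).2 fun c => h2 c (mem_top c)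
  · intro hb
    exact ⟨h.EB hb, h.iv_D b, fun c _ => (h.mem_E v hv hvD b (h.EB hb)).1 hb c⟩

/-- `E ≤ O₂(C)` -/
theorem Pnt.E_le [Finite W] : E ≤ o2 (⊤ : Subgroup C) := by
  obtain ⟨v, hv, hvD⟩ := h.exists_v
  rw [← h.E_eq hv hvD]
  exact h.cent_le hv hvD le_rfl le_top

/-- `B ∩ O₂(C) ≤ E` -/
theorem Pnt.inf_le_E [Finite C] [Finite W] : B ⊓ o2 (⊤ : Subgroup C) ≤ E := by
  obtain ⟨v, hv, hvD⟩ := h.exists_v
  rw [← h.E_eq hv hvD]
  exact inf_le_inf_left _ (h.le_km hv hvD ((h.o2T le_top).trans h.TP) (le_normalizer_o2 _))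

theorem Pnt.o2_le_top [Finite C] {X : Subgroup C} (hTX : T ≤ X) : o2 (⊤ : Subgroup C) ≤ o2 X :=
  le_o2 ((h.o2T le_top).trans hTX) (o2_isPGroup _) (le_top.trans (le_normalizer_o2 _))

end basic

/-- the two conditions -/
structure Cnd (T : Subgroup C) (D Λ : Subgroup W) (B E B₁ : Subgroup C) : Prop where
  le : B₁ ≤ B
  EB : E ≤ B₁
  ex : ∀ v ∈ Λ, v ∉ D → (cm D (B₁ : Set C)).relIndex (orb (⊤ : Subgroup C) v) = E.relIndex B₁
  lt : (cm D (B₁ : Set C)).index < E.relIndex B₁ ^ 2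

/-- **the choice** -/
structure Pick (T : Subgroup C) (D Λ : Subgroup W) (P B E X B₁ : Subgroup C) : Prop extends
    Cnd T D Λ B E B₁ where
  min : ∀ B₂, Cnd T D Λ B E B₂ → B₂ ≤ B₁ → B₂ = B₁
  TX : T ≤ X
  nle : ¬ B₁ ≤ o2 X
  low : ∀ R : Subgroup C, T ≤ R → R < X → B₁ ≤ o2 R

theorem Pnt.exists_pick [Finite C] [Finite W] {T : Subgroup C} {D Λ : Subgroup W} {P B E : Subgroup C}
    (h : Pnt T D Λ P B E) : ∃ X B₁, Pick T D Λ P B E X B₁ := by
  classical
  obtain ⟨B₁, h1, h1m⟩ := Set.exists_min_image {B₁ : Subgroup C | Cnd T D Λ B E B₁} (fun B₁ => Nat.card B₁)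
    (Set.toFinite _) ⟨B, le_rfl, h.EB, h.ex, h.lt⟩
  have h2 : ¬ B₁ ≤ o2 (⊤ : Subgroup C) := by
    intro h2
    have h3 : B₁ ≤ E := (le_inf h1.le h2).trans h.inf_le_E
    have h4 := h1.lt
    rw [relIndex_eq_one.2 h3] at h4
    have h5 : 0 < (cm D (B₁ : Set C)).index := Nat.pos_of_ne_zero index_ne_zero_of_finite
    omega
  obtain ⟨X, h3, h3m⟩ := Set.exists_min_image {X : Subgroup C | T ≤ X ∧ ¬ B₁ ≤ o2 X} (fun X => Nat.card X)
    (Set.toFinite _) ⟨⊤, le_top, h2⟩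
  refine ⟨X, B₁, h1, fun B₂ hB₂ hle => ?_, h3.1, h3.2, fun R hTR hRX => ?_⟩
  · exact eq_of_le_of_card_ge hle (h1m B₂ hB₂)
  · by_contra hc
    have h4 := h3m R ⟨hTR, hc⟩
    exact absurd (eq_of_le_of_card_ge hRX.le h4) hRX.ne

namespace Pick

variable {T : Subgroup C} {D Λ : Subgroup W} {P B E X B₁ : Subgroup C} (k : Pick T D Λ P B E X B₁)
  (h : Pnt T D Λ P B E)
include k h

theorem BX [Finite C] : B₁ ≤ X := (k.le.trans h.BT).trans k.TX

/-- `C_{B₁}(⟨v^X⟩ mod D) = B₁ ∩ O₂(X)` -/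
theorem cent [Finite C] {v : W} (hv : v ∈ Λ) (hvD : v ∉ D) :
    B₁ ⊓ km C (orb X v : Set W) D = B₁ ⊓ o2 X := by
  apply le_antisymm
  · exact le_inf inf_le_left (h.cent_le hv hvD k.le (k.BX h))
  · exact inf_le_inf_left _ (h.le_km hv hvD ((h.o2T k.TX).trans h.TP) (le_normalizer_o2 _))

theorem E_le [Finite C] [Finite W] : E ≤ B₁ ⊓ o2 X := le_inf k.EB (h.E_le.trans (h.o2_le_top k.TX))

/-- the count for one `v` -/
theorem aux [Finite C] [Finite W] (ml : MLK.{u, v}) (hK : IsKGroup C) {v : W} (hv : v ∈ Λ) (hvD : v ∉ D) :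
    (cm D (B₁ : Set C)).relIndex (orb X v) = (B₁ ⊓ o2 X).relIndex B₁ ∧
      (cm D ((B₁ ⊓ o2 X : Subgroup C) : Set C)).relIndex (orb (⊤ : Subgroup C) v) = E.relIndex (B₁ ⊓ o2 X) := by
  set E₀ := B₁ ⊓ o2 X with hE₀
  have hE0B : E₀ ≤ B₁ := inf_le_left
  have hEE : E ≤ E₀ := k.E_le h
  have hTP : T ≤ km C ({v} : Set W) D := fun t ht => (h.mem_P hv hvD).1 (h.TP ht)
  have hPX : X ⊓ km C ({v} : Set W) D ≤ P := fun c hc => (h.mem_P hv hvD).2 hc.2
  -- (ML) on `⟨v^X⟩`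
  have m1 : (km C (orb X v : Set W) D).relIndex B₁ ≤ (cm D (B₁ : Set C)).relIndex (orb X v) := by
    refine ml_sec ml hK h.sq h.two (h.odd_rel k.TX) (fun x _ => h.iv_D x) hTP ?_ fun a ha => h.Bsq a (k.le ha)
    refine inf_le_o2' (k.le.trans h.BP) (le_inf (k.BX h) ?_) hPX
    exact fun b hb => (h.mem_P hv hvD).1 (h.TP (h.BT (k.le hb)))
  rw [← inf_relIndex_right, inf_comm, k.cent h hv hvD] at m1
  -- (ML) on `⟨v^C⟩` for `E₀`
  have m2 : (km C (orb (⊤ : Subgroup C) v : Set W) D).relIndex E₀ ≤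
      (cm D (E₀ : Set C)).relIndex (orb (⊤ : Subgroup C) v) := by
    refine ml_sec ml hK h.sq h.two (h.odd_rel le_top) (fun x _ => h.iv_D x) hTP ?_
      fun a ha => h.Bsq a (k.le (hE0B ha))
    rw [top_inf_eq]
    have e1 : km C ({v} : Set W) D = P := by
      ext c
      exact (h.mem_P hv hvD).symm
    rw [e1]
    exact (hE0B.trans k.le).trans h.BP
  have e2 : (km C (orb (⊤ : Subgroup C) v : Set W) D).relIndex E₀ = E.relIndex E₀ := by
    rw [← inf_relIndex_right, ← inf_relIndex_right E]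
    congr 1
    rw [← h.E_eq hv hvD]
    apply le_antisymm
    · exact le_inf (le_inf (inf_le_right.trans (hE0B.trans k.le)) inf_le_left) inf_le_right
    · exact le_inf (inf_le_left.trans inf_le_right) inf_le_right
  rw [e2] at m2
  -- the chain
  have c1 : E.relIndex E₀ * E₀.relIndex B₁ = E.relIndex B₁ := relIndex_mul_relIndex _ _ _ hEE hE0B
  have c2 := rel_chain (cm_anti D (SetLike.coe_subset_coe.2 hE0B) : cm D (B₁ : Set C) ≤ cm D (E₀ : Set C))
    (orb (⊤ : Subgroup C) v)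
  have c3 : (cm D (B₁ : Set C)).relIndex (orb X v) ≤
      (cm D (B₁ : Set C)).relIndex (cm D (E₀ : Set C) ⊓ orb (⊤ : Subgroup C) v) := by
    refine rel_mono (le_inf ?_ (orb_le fun x _ => smul_mem_orb_self (mem_top x))) _
    intro w hw a ha
    have h1 : a ∈ B₁ ⊓ km C (orb X v : Set W) D := by
      rw [k.cent h hv hvD]
      exact ha
    exact h1.2.2 w hw
  rw [k.ex v hv hvD, ← c1] at c2
  have p1 := rel_pos E E₀
  have p2 := rel_pos E₀ B₁
  constructor
  · refine le_antisymm ?_ m1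
    refine c3.trans ?_
    -- `d c = a b`, `a ≤ c`
    by_contra hc
    push Not at hc
    have h1 : E.relIndex E₀ * E₀.relIndex B₁ <
        (cm D (B₁ : Set C)).relIndex (cm D (E₀ : Set C) ⊓ orb (⊤ : Subgroup C) v) *
          (cm D (E₀ : Set C)).relIndex (orb (⊤ : Subgroup C) v) := by
      calc E.relIndex E₀ * E₀.relIndex B₁ ≤ (cm D (E₀ : Set C)).relIndex (orb (⊤ : Subgroup C) v) * E₀.relIndex B₁ :=
            Nat.mul_le_mul_right _ m2
        _ = E₀.relIndex B₁ * (cm D (E₀ : Set C)).relIndex (orb (⊤ : Subgroup C) v) := mul_comm _ _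
        _ < _ := Nat.mul_lt_mul_of_pos_right hc (rel_pos _ _)
    exact absurd c2 h1.ne'
  · refine le_antisymm ?_ m2
    have h1 : E₀.relIndex B₁ * (cm D (E₀ : Set C)).relIndex (orb (⊤ : Subgroup C) v) ≤
        E₀.relIndex B₁ * E.relIndex E₀ := by
      calc _ ≤ (cm D (B₁ : Set C)).relIndex (cm D (E₀ : Set C) ⊓ orb (⊤ : Subgroup C) v) *
          (cm D (E₀ : Set C)).relIndex (orb (⊤ : Subgroup C) v) := Nat.mul_le_mul_right _ (m1.trans c3)
        _ = _ := by rw [c2, mul_comm]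
    exact Nat.le_of_mul_le_mul_left h1 p2

/-- **(2), the first count** -/
theorem exact [Finite C] [Finite W] (ml : MLK.{u, v}) (hK : IsKGroup C) {v : W} (hv : v ∈ Λ) (hvD : v ∉ D) :
    (cm D (B₁ : Set C)).relIndex (orb X v) = (B₁ ⊓ o2 X).relIndex B₁ := (k.aux h ml hK hv hvD).1

/-- **(2), the second count** -/
theorem count [Finite C] [Finite W] (ml : MLK.{u, v}) (hK : IsKGroup C) :
    (cm D (B₁ : Set C)).relIndex (cm D ((B₁ ⊓ o2 X : Subgroup C) : Set C)) < (B₁ ⊓ o2 X).relIndex B₁ ^ 2 := by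
  set E₀ := B₁ ⊓ o2 X with hE₀
  have hE0B : E₀ ≤ B₁ := inf_le_left
  have hEE : E ≤ E₀ := k.E_le h
  have h1 : E.relIndex E₀ ^ 2 ≤ (cm D (E₀ : Set C)).index := by
    by_contra hc
    push Not at hc
    have h2 := k.min E₀ ⟨hE0B.trans k.le, hEE, fun v hv hvD => (k.aux h ml hK hv hvD).2, hc⟩ hE0B
    apply k.nle
    rw [← h2]
    exact inf_le_right
  have c1 : E.relIndex E₀ * E₀.relIndex B₁ = E.relIndex B₁ := relIndex_mul_relIndex _ _ _ hEE hE0B
  have c2 := relIndex_mul_index (cm_anti D (SetLike.coe_subset_coe.2 hE0B) : cm D (B₁ : Set C) ≤ cm D (E₀ : Set C))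
  have h3 := k.lt
  by_contra hc
  push Not at hc
  have h4 : E.relIndex B₁ ^ 2 ≤ (cm D (B₁ : Set C)).index := by
    calc E.relIndex B₁ ^ 2 = E₀.relIndex B₁ ^ 2 * E.relIndex E₀ ^ 2 := by rw [← c1]; ring
      _ ≤ _ := Nat.mul_le_mul hc h1
      _ = _ := c2
  exact absurd h3 (not_lt.2 h4)

end Pick

end Cfsg.Agent.Omega.NO3b.ExEnd

end

section


/-!
# The exact end, (3): `H = X / C_X(U)` acts on `M = U / D`, `U = ⟨Λ^X⟩`

* **`Pnt.exists_abs`** : `X`, `U`, `H`, `M` with `EndX.Abs`.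
-/

set_option autoImplicit false

namespace Cfsg.Agent.Omega.NO3b.ExEnd

open Subgroup Cfsg Cfsg.Agent.ZN Cfsg.Agent.ClassTwoFusion.Quad Cfsg.Agent.Omega.ML.MinFrame
open Cfsg.Agent.MinSimple.VModule (o2_isPGroup o2_le le_o2 le_normalizer_o2 o2_le_of_sylow)
open Cfsg.Agent.Omega.ML.Final (MLK kgroup_of_surj)

universe u v

variable {C : Type u} [Group C] {W : Type v} [CommGroup W] [MulDistribMulAction C W]

/-- the action of a subgroup on an invariant subgroup -/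
abbrev subAct (X : Subgroup C) (U : Subgroup W) (hU : ∀ x ∈ X, ∀ w ∈ U, x • w ∈ U) : MulDistribMulAction X U where
  smul c u := ⟨(c : C) • (u : W), hU c c.2 u u.2⟩
  one_smul u := Subtype.ext (one_smul C (u : W))
  mul_smul c d u := Subtype.ext (mul_smul (c : C) d (u : W))
  smul_mul c u w := Subtype.ext (smul_mul' (c : C) (u : W) w)
  smul_one c := Subtype.ext (smul_one (c : C))

/-- `⟨Λ^X⟩` -/
def UU (X : Subgroup C) (Λ : Subgroup W) : Subgroup W := closure {w | ∃ x ∈ X, ∃ v ∈ Λ, w = x • v}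

theorem smul_mem_UU {X : Subgroup C} {Λ : Subgroup W} {x : C} (hx : x ∈ X) {w : W} (hw : w ∈ UU X Λ) :
    x • w ∈ UU X Λ := by
  have h1 : UU X Λ ≤ (UU X Λ).comap (MulDistribMulAction.toMonoidHom W x) := by
    rw [UU, closure_le]
    rintro _ ⟨y, hy, v, hv, rfl⟩
    exact subset_closure ⟨x * y, mul_mem hx hy, v, hv, (mul_smul x y v).symm⟩
  exact h1 hw

theorem le_UU (X : Subgroup C) (Λ : Subgroup W) : Λ ≤ UU X Λ :=
  fun v hv => subset_closure ⟨1, one_mem _, v, hv, (one_smul C v).symm⟩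

theorem orb_le_UU {X : Subgroup C} {Λ : Subgroup W} {v : W} (hv : v ∈ Λ) : orb X v ≤ UU X Λ :=
  orb_le fun x hx => subset_closure ⟨x, hx, v, hv, rfl⟩

theorem UU_le {X : Subgroup C} {Λ U : Subgroup W} (h : ∀ x ∈ X, ∀ v ∈ Λ, x • v ∈ U) : UU X Λ ≤ U := by
  rw [UU, closure_le]
  rintro _ ⟨x, hx, v, hv, rfl⟩
  exact h x hx v hv

/-- **(1)-(3)** -/
theorem Pnt.exists_abs [Finite C] [Finite W] (ml : MLK.{u, v}) (hK : IsKGroup C) {T : Subgroup C} {D Λ : Subgroup W}
    {P B E : Subgroup C} {L : W → Subgroup W} (h : Pnt T D Λ P B E) (l : Lab T D Λ P L) :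
    ∃ (X : Subgroup C) (U : Subgroup W), T ≤ X ∧ (∀ x ∈ X, ∀ w ∈ U, x • w ∈ U) ∧ D ≤ U ∧ Λ ≤ U ∧
      ∃ (H : Type u) (_ : Group H) (_ : Finite H) (M : Type v) (_ : Group M) (_ : Finite M)
        (_ : MulDistribMulAction H M) (π : X →* H) (q : U →* M), Function.Surjective π ∧ Function.Surjective q ∧
        (∀ w : U, q w = 1 ↔ (w : W) ∈ D) ∧
        (∀ (x : X) (w w' : U), (w' : W) = (x : C) • (w : W) → q w' = π x • q w) ∧ IsKGroup H ∧
        (∀ F : Subgroup H, F.Normal → Odd (Nat.card F) → ∀ m : M,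
          (∀ v ∈ (Λ.subgroupOf U).map q, v ≠ 1 → m ∈ orb (⊤ : Subgroup H) v) → ∀ f ∈ F, f • m = m) ∧
        ∃ B' Y, EndX.Abs ((T.subgroupOf X).map π) B' Y ((Λ.subgroupOf U).map q) := by
  obtain ⟨X, B₁, k⟩ := h.exists_pick
  obtain ⟨v₀, hv₀, hv₀D⟩ := h.exists_v
  set U := UU X Λ with hU
  have hinv : ∀ x ∈ X, ∀ w ∈ U, x • w ∈ U := fun x hx w hw => smul_mem_UU hx hw
  have hΛU : Λ ≤ U := le_UU X Λ
  have hDU : D ≤ U := h.DΛ.trans hΛU
  let _ : MulDistribMulAction X U := subAct X U hinv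
  set D' := D.subgroupOf U with hD'
  have hD'inv : ∀ (x : X), ∀ d ∈ D', x • d ∈ D' := by
    intro x d hd
    rw [hD', mem_subgroupOf] at hd ⊢
    change (x : C) • (d : W) ∈ D
    rwa [h.fixD _ _ hd]
  let aM : MulDistribMulAction X (U ⧸ D') := quoAct D' hD'inv
  set q : U →* U ⧸ D' := QuotientGroup.mk' D' with hq
  have hqs : Function.Surjective q := QuotientGroup.mk'_surjective D'
  have hq1 : ∀ w : U, q w = 1 ↔ (w : W) ∈ D := fun w => by
    rw [hq, QuotientGroup.mk'_apply, QuotientGroup.eq_one_iff, hD', mem_subgroupOf]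
  have hqe : ∀ w w' : U, q w = q w' ↔ (w : W)⁻¹ * (w' : W) ∈ D := fun w w' => QuotientGroup.eq
  have hsm0 : ∀ (x : X) (w : U), x • q w = q (x • w) := fun _ _ => rfl
  set N := fxr X (⊤ : Subgroup (U ⧸ D')) with hN
  have hNn : N.Normal := fxr_normal fun _ _ _ => mem_top _
  have hNt : ∀ x ∈ N, ∀ m : U ⧸ D', x • m = m := fun x hx m => hx m (mem_top m)
  let _ : MulDistribMulAction (X ⧸ N) (U ⧸ D') := Cfsg.Agent.Omega.ML.MinFrame.quoAct N hNt
  set π : X →* X ⧸ N := QuotientGroup.mk' N with hπ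
  have hπs : Function.Surjective π := QuotientGroup.mk'_surjective N
  have hsm : ∀ (x : X) (w : U), π x • q w = q (x • w) := fun _ _ => rfl
  have hfix : ∀ (x : X) (w : U), π x • q w = q w ↔ (w : W)⁻¹ * (x : C) • (w : W) ∈ D := by
    intro x w
    rw [hsm, eq_comm, hqe]
    exact Iff.rfl
  -- the kernel
  have hNmem : ∀ x : X, x ∈ N ↔ (x : C) ∈ km C (U : Set W) D := by
    intro x
    constructor
    · intro hx
      refine ⟨h.iv_D _, fun w hw => (hfix x ⟨w, hw⟩).1 ?_⟩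
      exact hNt x hx (q ⟨w, hw⟩)
    · intro hx m _
      obtain ⟨w, rfl⟩ := hqs m
      exact (hfix x w).2 (hx.2 w w.2)
  have hkm : ∀ c : C, (∀ v ∈ Λ, v ∉ D → c ∈ km C (orb X v : Set W) D) → c ∈ km C (U : Set W) D := by
    intro c hc
    refine ⟨h.iv_D c, ?_⟩
    have h1 : U ≤ cm D ({c} : Set C) := by
      refine UU_le fun x hx v hv a ha => ?_
      rw [Set.mem_singleton_iff.1 ha]
      by_cases hvD : v ∈ D
      · rw [h.fixD x v hvD, h.fixD c v hvD, inv_mul_cancel]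
        exact one_mem _
      · exact (hc v hv hvD).2 _ (smul_mem_orb_self hx)
    exact fun w hw => h1 hw c rfl
  have hkmX : ∀ {c : C}, c ∈ X → c ∈ km C (U : Set W) D → c ∈ P := fun _ hc =>
    (h.mem_P hv₀ hv₀D).2 (km_anti (Set.singleton_subset_iff.2 (hΛU hv₀)) hc)
  have hBU : B₁ ⊓ km C (U : Set W) D = B₁ ⊓ o2 X := by
    apply le_antisymm
    · rw [← k.cent h hv₀ hv₀D]
      exact inf_le_inf_left _ (km_anti (SetLike.coe_subset_coe.2 (orb_le_UU hv₀)))
    · refine le_inf inf_le_left fun c hc => hkm c fun v hv hvD => ?_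
      have h1 : c ∈ B₁ ⊓ km C (orb X v : Set W) D := by
        rw [k.cent h hv hvD]
        exact hc
      exact h1.2
  have hBX : B₁ ≤ X := k.BX h
  have hcard : Nat.card ((B₁.subgroupOf X).map π) = (B₁ ⊓ o2 X).relIndex B₁ := by
    rw [← relIndex_ker, hπ, QuotientGroup.ker_mk']
    have e1 : N = (km C (U : Set W) D).subgroupOf X := by
      ext x
      rw [hNmem, mem_subgroupOf]
    rw [e1, relIndex_subgroupOf hBX, ← inf_relIndex_right, inf_comm, hBU]
  have hcv : (cv (U ⧸ D') (((B₁.subgroupOf X).map π : Subgroup (X ⧸ N)) : Set (X ⧸ N))).comap q =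
      (cm D (B₁ : Set C)).subgroupOf U := by
    ext w
    rw [mem_comap, mem_subgroupOf]
    constructor
    · exact fun h1 a ha => (hfix ⟨a, hBX ha⟩ w).1 (h1 _ ⟨⟨a, hBX ha⟩, ha, rfl⟩)
    · rintro h1 _ ⟨a, ha, rfl⟩
      exact (hfix a w).2 (h1 a ha)
  have hlam : ∀ m ∈ (Λ.subgroupOf U).map q, m ≠ 1 → ∃ v, ∃ hv : v ∈ Λ, v ∉ D ∧ q ⟨v, hΛU hv⟩ = m := by
    rintro _ ⟨w, hw, rfl⟩ hne
    exact ⟨w, hw, fun hwD => hne ((hq1 w).2 hwD), rfl⟩
  have horbm : ∀ v (hv : v ∈ Λ), orb (⊤ : Subgroup (X ⧸ N)) (q ⟨v, hΛU hv⟩) = ((orb X v).subgroupOf U).map q := by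
    intro v hv
    apply le_antisymm
    · refine orb_le fun g _ => ?_
      obtain ⟨x, rfl⟩ := hπs g
      exact ⟨x • ⟨v, hΛU hv⟩, smul_mem_orb_self x.2, rfl⟩
    · rw [map_le_iff_le_comap]
      have h1 : orb X v ≤ ((orb (⊤ : Subgroup (X ⧸ N)) (q ⟨v, hΛU hv⟩)).comap q).map U.subtype := by
        refine orb_le fun x hx => ⟨(⟨x, hx⟩ : X) • ⟨v, hΛU hv⟩, ?_, rfl⟩
        exact smul_mem_orb_self (g := π ⟨x, hx⟩) (mem_top _)
      intro w hw
      obtain ⟨w', hw', he⟩ := h1 hw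
      have h2 : w' = w := Subtype.ext he
      rwa [h2] at hw'
  -- `O(H)` centralises the intersection of the `⟨v^H⟩`
  have hoddF : ∀ F : Subgroup (X ⧸ N), F.Normal → Odd (Nat.card F) → ∀ m : U ⧸ D',
      (∀ v ∈ (Λ.subgroupOf U).map q, v ≠ 1 → m ∈ orb (⊤ : Subgroup (X ⧸ N)) v) → ∀ f ∈ F, f • m = m := by
    intro F hFn hFo m hm f hf
    obtain ⟨w, rfl⟩ := hqs m
    set Y₀ : Subgroup C := (F.comap π).map X.subtype with hY₀
    have hY₀m : ∀ x : X, (x : C) ∈ Y₀ ↔ π x ∈ F := by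
      intro x
      constructor
      · rintro ⟨y, hy, hyx⟩
        rw [← (Subtype.ext hyx : y = x)]
        exact hy
      · exact fun hx => ⟨x, hx, rfl⟩
    have hY₀X : Y₀ ≤ X := map_subtype_le _
    have hXY₀ : X ≤ normalizer (Y₀ : Set C) := by
      have key : ∀ x ∈ X, ∀ y ∈ Y₀, x * y * x⁻¹ ∈ Y₀ := by
        intro x hx y hy
        have h1 := hFn.conj_mem _ ((hY₀m ⟨y, hY₀X hy⟩).1 hy) (π ⟨x, hx⟩)
        rw [← map_inv, ← map_mul, ← map_mul] at h1
        exact (hY₀m _).2 h1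
      intro x hx
      rw [mem_normalizer_iff]
      refine fun y => ⟨key x hx y, fun hy => ?_⟩
      have h1 := key x⁻¹ (inv_mem hx) _ hy
      have e : x⁻¹ * (x * y * x⁻¹) * x⁻¹⁻¹ = y := by group
      rwa [e] at h1
    have hT₀ : ∀ t ∈ T ⊓ Y₀, ∀ (ht : t ∈ X), (⟨t, ht⟩ : X) ∈ N := by
      intro t ht htX
      have h1 : π ⟨t, htX⟩ ∈ F := (hY₀m ⟨t, htX⟩).1 ht.2
      have h2 : π ⟨t, htX⟩ ∈ (T.subgroupOf X).map π := ⟨⟨t, htX⟩, ht.1, rfl⟩
      have h3 : IsPGroup 2 ((T.subgroupOf X).map π) := (h.two.comap_of_injective _ X.subtype_injective).map π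
      obtain ⟨n, hn⟩ := h3 ⟨_, h2⟩
      have h4 : π ⟨t, htX⟩ ^ 2 ^ n = 1 := congrArg Subtype.val hn
      have h5 : orderOf (π ⟨t, htX⟩) ∣ 2 ^ n := orderOf_dvd_of_pow_eq_one h4
      have h6 : orderOf (π ⟨t, htX⟩) ∣ Nat.card F := by
        have h7 := orderOf_dvd_natCard (⟨π ⟨t, htX⟩, h1⟩ : F)
        rwa [Subgroup.orderOf_mk] at h7
      have h7 : orderOf (π ⟨t, htX⟩) = 1 := by
        have h8 : Nat.Coprime (2 ^ n) (Nat.card F) := Nat.Coprime.pow_left n (Nat.coprime_two_left.2 hFo)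
        exact Nat.dvd_one.1 (h8 ▸ Nat.dvd_gcd h5 h6)
      exact (QuotientGroup.eq_one_iff _).1 (orderOf_eq_one_iff.1 h7)
    have hw1 : ∀ t ∈ T ⊓ Y₀, t • (w : W) = w := by
      intro t ht
      have htX : t ∈ X := k.TX ht.1
      have hone : (w : W)⁻¹ * t • (w : W) = 1 := by
        refine l.inf _ fun v hv hvD => ?_
        have h1 := hm (q ⟨v, hΛU hv⟩) ⟨⟨v, hΛU hv⟩, hv, rfl⟩ fun h2 => hvD ((hq1 _).1 h2)
        rw [horbm v hv] at h1
        obtain ⟨u, hu, huw⟩ := h1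
        have h2 : (u : W)⁻¹ * (w : W) ∈ D := (hqe u w).1 huw
        have h3 : orb X v ≤ cm (L v) ({t} : Set C) := by
          refine orb_le fun x hx a ha => ?_
          rw [Set.mem_singleton_iff.1 ha, comm_smul]
          have h4 : (⟨x, hx⟩ : X)⁻¹ * ⟨t, htX⟩ * ⟨x, hx⟩ ∈ N := by
            have := hNn.conj_mem _ (hT₀ t ht htX) (⟨x, hx⟩ : X)⁻¹
            rwa [inv_inv] at this
          have h5 := l.lab v hv hvD (x⁻¹ * t * x) (hkmX (mul_mem (mul_mem (inv_mem hx) htX) hx) ((hNmem _).1 h4))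
          rwa [h.fixD x _ (l.LD v h5)]
        have h4 : D ≤ cm (L v) ({t} : Set C) := fun d hd a _ => by
          rw [h.fixD a d hd, inv_mul_cancel]
          exact one_mem _
        have h5 : (u : W) * ((u : W)⁻¹ * (w : W)) ∈ cm (L v) ({t} : Set C) := mul_mem (h3 hu) (h4 h2)
        rw [mul_inv_cancel_left] at h5
        exact h5 t rfl
      exact (inv_mul_eq_one.1 hone).symm
    obtain ⟨x, rfl⟩ := hπs f
    have h1 := l.tr Y₀ (k.TX.trans hXY₀) w hw1 x ((hY₀m x).2 hf)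
    rw [hsm]
    exact congrArg q (Subtype.ext h1)
  refine ⟨X, U, k.TX, hinv, hDU, hΛU, X ⧸ N, inferInstance, inferInstance, U ⧸ D', inferInstance, inferInstance,
    inferInstance, π, q, hπs, hqs, hq1, ?_, kgroup_of_surj hK X π hπs, hoddF, (B₁.subgroupOf X).map π,
    (P.subgroupOf X).map π, ?_⟩
  · intro x w w' hw
    rw [hsm]
    exact congrArg q (Subtype.ext hw)
  · refine ⟨?_, ?_, ?_, ?_, ?_, ?_, ?_, ?_, ?_, ?_, ?_, ?_, ?_, ?_, ?_⟩
    · -- sq
      intro m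
      obtain ⟨w, rfl⟩ := hqs m
      have h1 : w * w = 1 := Subtype.ext (h.sq w)
      rw [← map_mul, h1, map_one]
    · -- faith
      intro g hg
      obtain ⟨x, rfl⟩ := hπs g
      exact (QuotientGroup.eq_one_iff x).2 fun m _ => hg m
    · exact (h.two.comap_of_injective _ X.subtype_injective).map π
    · intro h2
      exact h.odd_rel k.TX (h2.trans (index_map_dvd _ hπs))
    · -- stab
      intro m hm hm1 g
      obtain ⟨v, hv, hvD, rfl⟩ := hlam m hm hm1
      obtain ⟨x, rfl⟩ := hπs g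
      rw [hfix]
      constructor
      · intro h1
        exact ⟨x, (h.stab v hv hvD x).2 h1, rfl⟩
      · rintro ⟨y, hy, hyx⟩
        have h1 : π y • q ⟨v, hΛU hv⟩ = q ⟨v, hΛU hv⟩ := (hfix y _).2 ((h.stab v hv hvD y).1 hy)
        rw [hyx] at h1
        exact (hfix x ⟨v, hΛU hv⟩).1 h1
    · exact map_mono fun t ht => h.TP ht
    · -- `Y ≠ ⊤`
      intro hY
      apply k.nle
      have hXP : X ≤ P := by
        intro x hx
        have h1 : π ⟨x, hx⟩ ∈ (P.subgroupOf X).map π := by rw [hY]; exact mem_top _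
        obtain ⟨y, hy, hyx⟩ := h1
        have h2 : y⁻¹ * ⟨x, hx⟩ ∈ N := QuotientGroup.eq.1 hyx
        have h3 : ((y⁻¹ * ⟨x, hx⟩ : X) : C) ∈ P := hkmX (y⁻¹ * ⟨x, hx⟩ : X).2 ((hNmem _).1 h2)
        have h4 := mul_mem (show (y : C) ∈ P from hy) h3
        have e : (y : C) * ((y⁻¹ * ⟨x, hx⟩ : X) : C) = x := by
          change (y : C) * ((y : C)⁻¹ * x) = x
          group
        rwa [e] at h4
      exact inf_le_o2' (k.le.trans h.BP) hBX hXP
    · -- `4 ≤ |lam|`
      have h1 : Nat.card ((Λ.subgroupOf U).map q) * Nat.card D = Nat.card Λ := by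
        rw [← relIndex_ker, hq, QuotientGroup.ker_mk', hD', relIndex_subgroupOf hΛU, mul_comm]
        rw [← card_mul_index (D.subgroupOf Λ)]
        congr 1
        exact (Nat.card_congr (subgroupOfEquivOfLe h.DΛ).toEquiv).symm
      have h2 := h.four
      have h3 : 0 < Nat.card D := Nat.card_pos
      rw [← h1] at h2
      exact Nat.le_of_mul_le_mul_right h2 h3
    · -- gen
      intro V hV
      rw [eq_top_iff]
      intro m _
      obtain ⟨w, rfl⟩ := hqs m
      have h1 : U ≤ (V.comap q).map U.subtype := by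
        refine UU_le fun x hx v hv => ?_
        refine ⟨⟨x • v, hinv x hx v (hΛU hv)⟩, ?_, rfl⟩
        exact hV (π ⟨x, hx⟩) (q ⟨v, hΛU hv⟩) ⟨⟨v, hΛU hv⟩, hv, rfl⟩
      obtain ⟨w', hw', he⟩ := h1 w.2
      have h2 : w' = w := Subtype.ext he
      rwa [h2] at hw'
    · -- `B ≤ T`
      exact map_mono fun b hb => h.BT (k.le hb)
    · -- `B ≠ ⊥`
      intro hB
      apply k.nle
      have h1 : B₁ ≤ B₁ ⊓ km C (U : Set W) D := by
        refine le_inf le_rfl fun b hb => ?_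
        have h2 : π ⟨b, hBX hb⟩ ∈ (B₁.subgroupOf X).map π := ⟨⟨b, hBX hb⟩, hb, rfl⟩
        rw [hB, mem_bot] at h2
        exact (hNmem ⟨b, hBX hb⟩).1 ((QuotientGroup.eq_one_iff _).1 h2)
      rw [hBU] at h1
      exact h1.trans inf_le_right
    · -- el
      rintro _ ⟨b, hb, rfl⟩
      have h1 : b * b = 1 := Subtype.ext (h.Bsq b (k.le hb))
      rw [← map_mul, h1, map_one]
    · -- low
      intro R hTR hR
      set R₀ := (R.comap π).map X.subtype with hR₀
      have hR₀X : R₀ ≤ X := map_subtype_le _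
      have hTR₀ : T ≤ R₀ := fun t ht => ⟨⟨t, k.TX ht⟩, hTR ⟨⟨t, k.TX ht⟩, ht, rfl⟩, rfl⟩
      have hmemR : ∀ x : X, (x : C) ∈ R₀ ↔ π x ∈ R := by
        intro x
        constructor
        · rintro ⟨y, hy, hyx⟩
          rw [← (Subtype.ext hyx : y = x)]
          exact hy
        · exact fun hx => ⟨x, hx, rfl⟩
      have hlt : R₀ < X := by
        refine lt_of_le_of_ne hR₀X fun he => hR ?_
        rw [eq_top_iff]
        intro g _
        obtain ⟨x, rfl⟩ := hπs g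
        exact (hmemR x).1 (by rw [he]; exact x.2)
      have h1 := k.low R₀ hTR₀ hlt
      refine (map_mono (fun b hb => h1 hb) : (B₁.subgroupOf X).map π ≤ ((o2 R₀).subgroupOf X).map π).trans ?_
      refine le_o2 ?_ (((o2_isPGroup R₀).comap_of_injective _ X.subtype_injective).map π) ?_
      · rintro _ ⟨x, hx, rfl⟩
        exact (hmemR x).1 (o2_le _ hx)
      · intro g hg
        obtain ⟨y, rfl⟩ := hπs g
        have hy : (y : C) ∈ R₀ := (hmemR y).2 hg
        have key : ∀ y : X, (y : C) ∈ R₀ → ∀ z ∈ ((o2 R₀).subgroupOf X).map π,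
            π y * z * (π y)⁻¹ ∈ ((o2 R₀).subgroupOf X).map π := by
          rintro y hy _ ⟨x, hx, rfl⟩
          refine ⟨y * x * y⁻¹, ?_, by rw [map_mul, map_mul, map_inv]⟩
          exact (mem_normalizer_iff.1 (le_normalizer_o2 R₀ hy) _).1 hx
        rw [mem_normalizer_iff]
        refine fun z => ⟨key y hy z, fun hz => ?_⟩
        have h2 := key y⁻¹ (inv_mem hy) _ hz
        have e : π y⁻¹ * (π y * z * (π y)⁻¹) * (π y⁻¹)⁻¹ = z := by
          rw [map_inv]
          group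
        rwa [e] at h2
    · -- exact
      intro m hm hm1
      obtain ⟨v, hv, hvD, rfl⟩ := hlam m hm hm1
      rw [hcard, ← k.exact h ml hK hv hvD]
      rw [horbm v hv, ← relIndex_comap, hcv, relIndex_subgroupOf (orb_le_UU hv)]
    · -- lt
      rw [hcard, ← index_comap_of_surjective _ hqs, hcv]
      refine lt_of_le_of_lt ?_ (k.count h ml hK)
      refine rel_mono (UU_le fun x hx v hv a ha => ?_) _
      by_cases hvD : v ∈ D
      · rw [h.fixD x v hvD, h.fixD a v hvD, inv_mul_cancel]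
        exact one_mem _
      · have h1 : a ∈ B₁ ⊓ km C (orb X v : Set W) D := by
          rw [k.cent h hv hvD]
          exact ha
        exact h1.2.2 _ (smul_mem_orb_self hx)

end Cfsg.Agent.Omega.NO3b.ExEnd

end

section


/-!
# The exact end: `O(H) = 1`

* `oddFree_of` : if the odd normal subgroups centralise the intersection of the `⟨v^H⟩`, `1 ≠ v ∈ lam`, there are none;
* **`Pnt.exists_end`** : P1 of #22392 in the abstract frame.
-/

set_option autoImplicit false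

namespace Cfsg.Agent.Omega.NO3b.ExEnd

open Subgroup Cfsg Cfsg.Agent.ZN Cfsg.Agent.ClassTwoFusion.Quad Cfsg.Agent.Omega.ML.MinFrame
open Cfsg.Agent.Omega.ML.Final (MLK)
open Cfsg.Agent.Omega.NO3b.EndX
open Cfsg.Agent.MinSimple.VModule

universe u v

variable {H : Type u} [Group H] [Finite H] {M : Type v} [Group M] [Finite M] [MulDistribMulAction H M]

theorem oddFree_of (ml : MLK.{u, v}) (hK : IsKGroup H) {T B Y : Subgroup H} {lam : Subgroup M}
    (h : Abs T B Y lam)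
    (hF : ∀ F : Subgroup H, F.Normal → Odd (Nat.card F) → ∀ m : M,
      (∀ v ∈ lam, v ≠ 1 → m ∈ orb (⊤ : Subgroup H) v) → ∀ f ∈ F, f • m = m) : OddFree H := by
  intro F hFn hFo
  have hA := h.toABS
  have hfK : ∀ f ∈ F, Odd (orderOf f) := by
    intro f hf
    have h1 : orderOf f ∣ Nat.card F := by
      have h2 := orderOf_dvd_natCard (⟨f, hf⟩ : F)
      rwa [Subgroup.orderOf_mk] at h2
    exact hFo.of_dvd_nat h1
  have key : ∀ f ∈ F, ∀ m : M, ∀ v ∈ lam, v ≠ 1 → f • m * m⁻¹ ∈ orb (⊤ : Subgroup H) v := by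
    intro f hf m v hv hv1
    have h1 : m ∈ hA.CK ⊔ orb (⊤ : Subgroup H) v := by
      rw [hA.sup_top ml hK hv hv1]
      exact mem_top m
    have hN : (hA.CK).Normal := hA.norm _
    obtain ⟨c, hc, u, hu, rfl⟩ := Subgroup.mem_sup_of_normal_left.1 h1
    have h2 : f • c = c := hc f (mem_oddGen (mem_top f) (hfK f hf))
    have h3 : f • (c * u) * (c * u)⁻¹ = f • u * u⁻¹ := by
      rw [smul_mul', h2, mul_inv_rev, hA.comm u⁻¹ c⁻¹, hA.comm c (f • u)]
      group
    rw [h3]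
    exact mul_mem (smul_mem_orb (mem_top f) hu) (inv_mem hu)
  rw [eq_bot_iff]
  intro f hf
  rw [mem_bot]
  refine h.faith f fun m => ?_
  have h1 : f • (f • m * m⁻¹) = f • m * m⁻¹ :=
    hF F hFn hFo _ (fun v hv hv1 => key f hf m v hv hv1) f hf
  set d := f • m * m⁻¹ with hd
  have h2 : f • m = d * m := by rw [hd, inv_mul_cancel_right]
  have h3 : ∀ n : ℕ, f ^ n • m = d ^ n * m := by
    intro n
    induction n with
    | zero => rw [pow_zero, pow_zero, one_smul, one_mul]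
    | succ n ih =>
      have h4 : ∀ n : ℕ, f • d ^ n = d ^ n := by
        intro n
        rw [smul_pow', h1]
      rw [pow_succ', mul_smul, ih, smul_mul', h4, h2, ← mul_assoc, pow_succ]
  have h4 := h3 (orderOf f)
  rw [pow_orderOf_eq_one, one_smul] at h4
  obtain ⟨k, hk⟩ := hfK f hf
  have h5 : d ^ orderOf f = d := by
    rw [hk, pow_succ, pow_mul, pow_two, h.sq, one_pow, one_mul]
  rw [h5] at h4
  rw [h2]
  exact h4.symm

/-- **P1** in the abstract frame -/
theorem Pnt.exists_end {C : Type u} [Group C] [Finite C] {W : Type v} [CommGroup W] [Finite W]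
    [MulDistribMulAction C W] (ml : MLK.{u, v}) (hK : IsKGroup C) {T : Subgroup C} {D Λ : Subgroup W}
    {P B E : Subgroup C} {L : W → Subgroup W} (h : Pnt T D Λ P B E) (l : Lab T D Λ P L) :
    ∃ (X : Subgroup C) (U : Subgroup W), T ≤ X ∧ (∀ x ∈ X, ∀ w ∈ U, x • w ∈ U) ∧ D ≤ U ∧ Λ ≤ U ∧
      ∃ (H : Type u) (_ : Group H) (_ : Finite H) (M : Type v) (_ : Group M) (_ : Finite M)
        (_ : MulDistribMulAction H M) (π : X →* H) (q : U →* M), Function.Surjective π ∧ Function.Surjective q ∧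
        (∀ w : U, q w = 1 ↔ (w : W) ∈ D) ∧
        (∀ (x : X) (w w' : U), (w' : W) = (x : C) • (w : W) → q w' = π x • q w) ∧ IsKGroup H ∧ OddFree H ∧
        ∃ B' Y, Abs ((T.subgroupOf X).map π) B' Y ((Λ.subgroupOf U).map q) := by
  obtain ⟨X, U, h1, h2, h3, h4, H, iG, iF, M, iM, iFM, iA, π, q, h5, h6, h7, h8, h9, h10, B', Y, h11⟩ :=
    h.exists_abs ml hK l
  exact ⟨X, U, h1, h2, h3, h4, H, iG, iF, M, iM, iFM, iA, π, q, h5, h6, h7, h8, h9, oddFree_of ml h9 h11 h10, B', Y,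
    h11⟩

end Cfsg.Agent.Omega.NO3b.ExEnd

end
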