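import Cfsg.Agent.Mrg.Omega.NO3b.EndX.Final
import Cfsg.Agent.Mrg.Omega.ML.KnownAll
import Cfsg.Agent.Mrg.Omega.ML.Ex.KnownDone


/-!
# NotFF, the plugs with no open hypothesis but the base point

* `absP : AbsP`;
* `notFFP : Merge.NotFFP K` (NO-3S);
* `notFFG : BasePoint → Merge.NotFFG K` (NO-3L).

Author: helper768.
-/

set_option autoImplicit false

namespace Cfsg.Agent.Omega.NO3b.EndX

open Cfsg.Agent.Omega.Frame
open Cfsg.Agent.Omega.NOThreeL.Merge (NotFFP NotFFG)

universe u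

/-- **`AbsP`** -/
theorem absP : AbsP.{u, u} := absP_all ML.KnownAll.mlk ML.Ex.KnownDone.rows

variable {K : Cls.{u}}

/-- **`Merge.NotFFP K`** (NO-3S). -/
theorem notFFP : NotFFP K := notFFP_all ML.KnownAll.mlk ML.Ex.KnownDone.rows

/-- **`Merge.NotFFG K`** (NO-3L) from the base point. -/
theorem notFFG (hB : BasePt.BasePoint.{u}) : NotFFG K := notFFG_all ML.KnownAll.mlk ML.Ex.KnownDone.rows hB

end Cfsg.Agent.Omega.NO3b.EndX
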