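import Cfsg.Agent.Mrg.Omega.NO3b.EndX.RedA
import Cfsg.Agent.Mrg.Omega.CR.EndLie
import Cfsg.Agent.Mrg.Omega.ML.Ex.Known
import Cfsg.Agent.Mrg.Omega.ML.Ex.RowASix
import Cfsg.Agent.Mrg.Omega.ML.Ex.RowU33X


/-!
# The exact end of NotFF (v2), P7: `SimpP` (helper818)

* `known_of` : in the situation `InX`, `IsKGroup H`: `K` is a known simple group;
* **`simpP`** : `RowsX`, `MLK` give `SimpP` (`RowsX.exit` : Lie type in characteristic 2, `U₃(3)`, `A₆`; `U₃(3)` is dead
  with four `T`-fixed vectors (helper919), `A₆` for atoms (helper848); in the Lie case `C_M(T ∩ K)` is simple by Curtis–Richen, `CR.EndLie.lie2`).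
-/

set_option autoImplicit false

namespace Cfsg.Agent.Omega.NO3b.EndX

open Subgroup Cfsg Cfsg.Agent.ClassTwoFusion.Quad Cfsg.Agent.Omega.ML.Ex
open Cfsg.Agent.Omega.ML.Final (MLK simple_congr not_comm_congr)

universe u v

/-- `K` is a known simple group. -/
theorem known_of {H : Type u} [Group H] {M : Type v} [Group M] [MulDistribMulAction H M] {K T A : Subgroup H}
    (h : InX H M K T A) (hKG : IsKGroup H) : IsKnownSimple' K := by
  have h1 : IsSimpleGroup K := h.simple
  have h3 : ¬ IsMulCommutative K := fun h3 => h.not_comm fun x y => h3.is_comm.comm x y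
  let e0 : ↥K ⧸ (⊥ : Subgroup ↥K) ≃* K := QuotientGroup.quotientBot
  exact OddHalf.Known.isKnownSimple'_congr e0 (not_comm_congr e0.symm h3)
    (hKG K ⊥ (simple_congr e0.symm h1) (not_comm_congr e0.symm h3))

/-- **P7.** -/
theorem simpP (R : RowsX.{u, v}) (ml : MLK.{u, v}) : SimpP.{u, v} := by
  intro H _ _ M _ _ _ K T A h hA hKG h4 W hW hN hne
  rcases R.exit h (known_of h hKG) with hl | hu | ha
  · exact CR.EndLie.lie2 ml hKG h hl hW (fun n hn hnK => hN n ⟨hnK, hn⟩) hne
  · exact (RowU33X.dead_four h hu h4).elim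
  · exact (RowASix.alt6_atom h hA ha).elim

end Cfsg.Agent.Omega.NO3b.EndX
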